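import Mathlib.GroupTheory.FiniteAbelian.Basic
import Mathlib.GroupTheory.Sylow
import Mathlib.GroupTheory.GroupAction.Quotient
import Mathlib.Algebra.Group.MinimalAxioms
import Mathlib.GroupTheory.GroupAction.ConjAct
import Mathlib.Data.ZMod.Basic

/-!
# An abelian Sylow subgroup inverted by its normalizer: a covering group

If the Sylow `p`-subgroup `P` is abelian, noncyclic, and each element of its normalizer fixes or
inverts it, then the corestriction of a bilinear cocycle of `P` gives a central extension of order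
`p` in which two commuting elements of `P` have noncommuting preimages.
-/

set_option autoImplicit false

namespace CfsgLib.InertialTwo

variable {G : Type*} [Group G]

/-- An abelian noncyclic Sylow subgroup with automizer the inversion. -/
structure Setting (p : ℕ) (P : Sylow p G) : Prop where
  odd : p ≠ 2
  comm : ∀ x ∈ (P : Subgroup G), ∀ y ∈ (P : Subgroup G), x * y = y * x
  ncyc : ¬ IsCyclic (P : Subgroup G)
  inv : ∃ g ∈ Subgroup.normalizer ((P : Subgroup G) : Set G),
    ∀ x ∈ (P : Subgroup G), g * x * g⁻¹ = x⁻¹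
  ctrl : ∀ m ∈ Subgroup.normalizer ((P : Subgroup G) : Set G),
    (∀ x ∈ (P : Subgroup G), m * x * m⁻¹ = x) ∨ (∀ x ∈ (P : Subgroup G), m * x * m⁻¹ = x⁻¹)

variable [Finite G] {p : ℕ} [Fact p.Prime] {P : Sylow p G} (S : Setting p P)
include S

/-- Fusion inside `P`: one sign for a whole subset. -/
theorem conj_sign (u : G) :
    (∀ q ∈ (P : Subgroup G), u⁻¹ * q * u ∈ (P : Subgroup G) → u⁻¹ * q * u = q) ∨
      (∀ q ∈ (P : Subgroup G), u⁻¹ * q * u ∈ (P : Subgroup G) → u⁻¹ * q * u = q⁻¹) := by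
  set T : Set G := {q | q ∈ (P : Subgroup G) ∧ u⁻¹ * q * u ∈ (P : Subgroup G)} with hT
  set C := Subgroup.centralizer T
  have hPC : (P : Subgroup G) ≤ C := fun x hx =>
    Subgroup.mem_centralizer_iff.mpr fun q hq => S.comm q hq.1 x hx
  have hQC : ((u • P : Sylow p G) : Subgroup G) ≤ C := by
    rintro _ ⟨a, ha, rfl⟩
    refine Subgroup.mem_centralizer_iff.mpr fun q hq => ?_
    have h := S.comm _ hq.2 a ha
    show q * (u * a * u⁻¹) = u * a * u⁻¹ * q
    calc q * (u * a * u⁻¹) = u * ((u⁻¹ * q * u) * a) * u⁻¹ := by group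
      _ = u * (a * (u⁻¹ * q * u)) * u⁻¹ := by rw [h]
      _ = _ := by group
  obtain ⟨c, hc⟩ := MulAction.exists_smul_eq C ((u • P : Sylow p G).subtype hQC) (P.subtype hPC)
  have hc' : (c : G) • (u • P) = P := by
    rw [Sylow.smul_subtype hQC] at hc
    exact Sylow.subtype_injective hc
  rw [smul_smul] at hc'
  set m := (c : G) * u
  have hm : m⁻¹ ∈ Subgroup.normalizer ((P : Subgroup G) : Set G) :=
    inv_mem (Sylow.smul_eq_iff_mem_normalizer.mp hc')
  have key : ∀ q ∈ T, u⁻¹ * q * u = m⁻¹ * q * m⁻¹⁻¹ := fun q hq => by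
    have h : q * (c : G) = c * q := Subgroup.mem_centralizer_iff.mp c.2 q hq
    calc u⁻¹ * q * u = u⁻¹ * (c : G)⁻¹ * (c * q) * u := by group
      _ = u⁻¹ * (c : G)⁻¹ * (q * c) * u := by rw [h]
      _ = m⁻¹ * q * m⁻¹⁻¹ := by simp only [m]; group
  rcases S.ctrl _ hm with h | h
  · exact Or.inl fun q hq hq' => (key q ⟨hq, hq'⟩).trans (h q hq)
  · exact Or.inr fun q hq hq' => (key q ⟨hq, hq'⟩).trans (h q hq)

/-- Two homomorphisms to `ZMod p` with independent values. -/
theorem exists_pair : ∃ (φ₁ φ₂ : (P : Subgroup G) →* Multiplicative (ZMod p))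
    (a b : (P : Subgroup G)), (φ₁ a).toAdd = 1 ∧ (φ₂ b).toAdd = 1 ∧ (φ₁ b).toAdd = 0 := by
  classical
  letI : CommGroup (P : Subgroup G) :=
    { (inferInstance : Group (P : Subgroup G)) with
      mul_comm := fun a b => Subtype.ext (S.comm a a.2 b b.2) }
  obtain ⟨ι, _, n, hn, ⟨e⟩⟩ :=
    CommGroup.equiv_prod_multiplicative_zmod_of_finite (P : Subgroup G)
  have hι : ∃ i j : ι, i ≠ j := by
    by_contra h
    push Not at h
    refine S.ncyc (isCyclic_iff_exists_zpowers_eq_top.mpr ?_)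
    rcases isEmpty_or_nonempty ι with hE | ⟨⟨i⟩⟩
    · exact ⟨1, eq_top_iff.mpr fun x _ => by
        rw [show x = 1 from e.injective (funext fun i => hE.elim i)]
        exact one_mem _⟩
    · refine ⟨e.symm (Pi.mulSingle i (Multiplicative.ofAdd 1)), eq_top_iff.mpr fun x _ => ?_⟩
      refine ⟨((e x i).toAdd.cast : ℤ), e.injective ?_⟩
      simp only [map_zpow, MulEquiv.apply_symm_apply]
      funext j
      rw [h j i, Pi.pow_apply, Pi.mulSingle_eq_same]
      refine Multiplicative.toAdd.injective ?_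
      rw [toAdd_zpow, toAdd_ofAdd, zsmul_one, ZMod.intCast_zmod_cast]
  obtain ⟨i, j, hij⟩ := hι
  have hdvd : ∀ i, p ∣ n i := fun i => by
    obtain ⟨k, hk⟩ := IsPGroup.iff_card.mp P.2
    have h1 : n i ∣ p ^ k := by
      rw [← hk, Nat.card_congr e.toEquiv, Nat.card_pi]
      have h2 := Finset.dvd_prod_of_mem (fun l => Nat.card (Multiplicative (ZMod (n l))))
        (Finset.mem_univ i)
      rwa [show Nat.card (Multiplicative (ZMod (n i))) = n i from Nat.card_zmod (n i)] at h2
    obtain ⟨l, -, hl⟩ := (Nat.dvd_prime_pow Fact.out).mp h1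
    rw [hl]
    exact dvd_pow_self p fun h0 => by have := hn i; rw [hl, h0, pow_zero] at this; omega
  let φ : ι → ((P : Subgroup G) →* Multiplicative (ZMod p)) := fun i =>
    ((ZMod.castHom (hdvd i) (ZMod p)).toAddMonoidHom.toMultiplicative.comp
      (Pi.evalMonoidHom _ i)).comp e.toMonoidHom
  refine ⟨φ i, φ j, e.symm (Pi.mulSingle i (Multiplicative.ofAdd 1)),
    e.symm (Pi.mulSingle j (Multiplicative.ofAdd 1)), ?_, ?_, ?_⟩
  · simp [φ, ZMod.cast_one (hdvd i)]
  · simp [φ, ZMod.cast_one (hdvd j)]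
  · simp [φ, Pi.mulSingle_eq_of_ne hij]

end CfsgLib.InertialTwo

namespace CfsgLib.InertialTwo.Cocycle

universe u

/-- A normalised two-cocycle with values in `ZMod p`. -/
structure IsCocycle {G : Type u} [Group G] {p : ℕ} (f : G → G → ZMod p) : Prop where
  one_left : ∀ g, f 1 g = 0
  one_right : ∀ g, f g 1 = 0
  assoc : ∀ g k l, f g k + f (g * k) l = f k l + f g (k * l)

/-- The set underlying the extension. -/
@[ext]
structure Ext {G : Type u} [Group G] {p : ℕ} (f : G → G → ZMod p) : Type u where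
  /-- The central coordinate. -/
  z : ZMod p
  /-- The image. -/
  g : G

variable {G : Type u} [Group G] {p : ℕ} {f : G → G → ZMod p}

/-- The group of a cocycle. -/
@[reducible]
def group (hf : IsCocycle f) : Group (Ext f) :=
  letI : Mul (Ext f) := ⟨fun a b => ⟨a.z + b.z + f a.g b.g, a.g * b.g⟩⟩
  letI : One (Ext f) := ⟨⟨0, 1⟩⟩
  letI : Inv (Ext f) := ⟨fun a => ⟨-a.z - f a.g⁻¹ a.g, a.g⁻¹⟩⟩
  Group.ofLeftAxioms
    (fun a b c => Ext.ext
      (show a.z + b.z + f a.g b.g + c.z + f (a.g * b.g) c.g =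
          a.z + (b.z + c.z + f b.g c.g) + f a.g (b.g * c.g) by
        linear_combination hf.assoc a.g b.g c.g)
      (mul_assoc _ _ _))
    (fun a => Ext.ext (show 0 + a.z + f 1 a.g = a.z by rw [hf.one_left]; ring) (one_mul _))
    (fun a => Ext.ext (show -a.z - f a.g⁻¹ a.g + a.z + f a.g⁻¹ a.g = 0 by ring)
      (inv_mul_cancel _))

/-- The extension of a cocycle, in bundled form. -/
theorem exists_extension_of_cocycle [Finite G] [NeZero p] (hf : IsCocycle f) :
    ∃ (E : Type u) (_ : Group E) (_ : Finite E) (π : E →* G), Function.Surjective π ∧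
      Nat.card π.ker = p ∧ π.ker ≤ Subgroup.center E ∧
      ∀ a b : G, a * b = b * a → f a b ≠ f b a →
        ∃ a' b' : E, π a' = a ∧ π b' = b ∧ a' * b' ≠ b' * a' := by
  letI := group hf
  have hmul : ∀ a b : Ext f, a * b = ⟨a.z + b.z + f a.g b.g, a.g * b.g⟩ := fun _ _ => rfl
  have hone : (1 : Ext f) = ⟨0, 1⟩ := rfl
  let π : Ext f →* G := { toFun := Ext.g, map_one' := rfl, map_mul' := fun _ _ => rfl }
  let e : Ext f ≃ ZMod p × G :=
    { toFun := fun a => (a.z, a.g), invFun := fun a => ⟨a.1, a.2⟩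
      left_inv := fun _ => rfl, right_inv := fun _ => rfl }
  have hfin : Finite (Ext f) := Finite.of_equiv _ e.symm
  refine ⟨Ext f, inferInstance, hfin, π, fun g => ⟨⟨0, g⟩, rfl⟩, ?_, ?_, ?_⟩
  · rw [show Nat.card π.ker = Nat.card (ZMod p) from Nat.card_congr
      { toFun := fun a => a.1.z
        invFun := fun z => ⟨⟨z, 1⟩, rfl⟩
        left_inv := fun a => Subtype.ext (Ext.ext rfl (MonoidHom.mem_ker.mp a.2).symm)
        right_inv := fun _ => rfl }, Nat.card_zmod]
  · intro a ha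
    have ha' : a.g = 1 := ha
    refine Subgroup.mem_center_iff.mpr fun b => ?_
    rw [hmul, hmul, ha']
    refine Ext.ext ?_ (by simp)
    show b.z + a.z + f b.g 1 = a.z + b.z + f 1 b.g
    rw [hf.one_left, hf.one_right]
    ring
  · intro a b hab hne
    refine ⟨⟨0, a⟩, ⟨0, b⟩, rfl, rfl, fun h => hne ?_⟩
    have := congrArg Ext.z h
    simpa [hmul] using this

end CfsgLib.InertialTwo.Cocycle

namespace CfsgLib.InertialTwo

universe u

variable {G : Type u} [Group G] [Finite G] {p : ℕ} [Fact p.Prime] {P : Sylow p G}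

/-- A central extension of order `p` in which `P` stops being abelian. -/
theorem exists_extension (S : Setting p P) :
    ∃ (E : Type u) (_ : Group E) (_ : Finite E) (π : E →* G), Function.Surjective π ∧
      Nat.card π.ker = p ∧ π.ker ≤ Subgroup.center E ∧
      ∃ a b : E, π a * π b = π b * π a ∧ a * b ≠ b * a := by
  classical
  set H := (P : Subgroup G) with hH
  obtain ⟨φ₁, φ₂, a, b, ha, hb, hb1⟩ : ∃ (φ₁ φ₂ : H →* Multiplicative (ZMod p)) (a b : H),
      (φ₁ a).toAdd = 1 ∧ (φ₂ b).toAdd = 1 ∧ (φ₁ b).toAdd = 0 := exists_pair S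
  have := Fintype.ofFinite (G ⧸ H)
  -- a transversal adapted to the action of `P`
  let mkO : G ⧸ H → MulAction.orbitRel.Quotient H (G ⧸ H) := Quotient.mk''
  let r₀ : G ⧸ H → G ⧸ H := fun r => (mkO r).out
  have hr₀ : ∀ r, r₀ r ∈ MulAction.orbit H r := fun r => Quotient.mk_out (s := MulAction.orbitRel H (G ⧸ H)) r
  have hs : ∀ r, ∃ s : H, (s : G) • r₀ r = r := fun r => by
    obtain ⟨x, hx⟩ := hr₀ r
    exact ⟨x⁻¹, by rw [← hx]; exact inv_smul_smul x r⟩
  choose s hs using hs
  let t : G ⧸ H → G := fun r => (s r : G) * (r₀ r).out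
  have ht : ∀ r, ((t r : G) : G ⧸ H) = r := fun r => by
    conv_rhs => rw [← hs r]
    conv_rhs => rw [← QuotientGroup.out_eq' (r₀ r)]
    rfl
  have hmem : ∀ g r, (t (g • r))⁻¹ * g * t r ∈ H := fun g r => by
    rw [mul_assoc, ← QuotientGroup.eq, ht]
    show g • r = g • ((t r : G) : G ⧸ H)
    rw [ht]
  let h : G → G ⧸ H → H := fun g r => ⟨_, hmem g r⟩
  have hh : ∀ g k r, h (g * k) r = h g (k • r) * h k r := fun g k r => Subtype.ext (by
    simp only [h, Subgroup.coe_mul, mul_smul]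
    group)
  let A₁ : H → ZMod p := fun x => (φ₁ x).toAdd
  let A₂ : H → ZMod p := fun x => (φ₂ x).toAdd
  have hA₁ : ∀ x y, A₁ (x * y) = A₁ x + A₁ y := fun x y => by simp [A₁]
  have hA₂ : ∀ x y, A₂ (x * y) = A₂ x + A₂ y := fun x y => by simp [A₂]
  let f : G → G → ZMod p := fun g k => ∑ r, A₁ (h g (k • r)) * A₂ (h k r)
  have hone : ∀ r, h 1 r = 1 := fun r => Subtype.ext (by simp [h])
  have hf : Cocycle.IsCocycle f := by
    refine ⟨fun g => Finset.sum_eq_zero fun r _ => by simp [A₁, hone],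
      fun g => Finset.sum_eq_zero fun r _ => by simp [A₂, hone], fun g k l => ?_⟩
    have h1 : f g k = ∑ r, A₁ (h g (k • l • r)) * A₂ (h k (l • r)) :=
      (Equiv.sum_comp (MulAction.toPerm l) fun r => A₁ (h g (k • r)) * A₂ (h k r)).symm
    rw [h1]
    simp only [f, hh, hA₁, hA₂, mul_smul, ← Finset.sum_add_distrib]
    exact Finset.sum_congr rfl fun r _ => by ring
  -- the cocycle on `P`
  let S₁ : G ⧸ H → ZMod p := fun r => A₁ (s r)
  let S₂ : G ⧸ H → ZMod p := fun r => A₂ (s r)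
  have hval : ∀ (x : H) r, ∃ ε : ZMod p, ε * ε = 1 ∧
      (∀ r', mkO r' = mkO r → ∀ y : H,
        A₁ (h y r') = ε * (A₁ y + S₁ r' - S₁ ((y : G) • r')) ∧
        A₂ (h y r') = ε * (A₂ y + S₂ r' - S₂ ((y : G) • r'))) := by
    intro _ r
    set v := (r₀ r).out
    have key : ∀ r', mkO r' = mkO r → ∀ y : H,
        (h y r' : G) = v⁻¹ * (((s ((y : G) • r'))⁻¹ * y * s r' : H) : G) * v := by
      intro r' hr' y
      have e1 : r₀ r' = r₀ r := by simp only [r₀, hr']
      have e2 : r₀ ((y : G) • r') = r₀ r := by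
        have : mkO ((y : G) • r') = mkO r' :=
          Quotient.sound' (show ((y : G) • r') ∈ MulAction.orbit H r' from ⟨y, rfl⟩)
        simp only [r₀, this, hr']
      simp only [h, t, e1, e2, Subgroup.coe_mul, Subgroup.coe_inv, v]
      group
    rcases conj_sign S v with hv | hv
    · refine ⟨1, one_mul 1, fun r' hr' y => ?_⟩
      have e : h y r' = (s ((y : G) • r'))⁻¹ * y * s r' := Subtype.ext
        ((key r' hr' y).trans (hv _ (Subtype.coe_prop _) (key r' hr' y ▸ (h y r').2)))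
      simp only [e, hA₁, hA₂, S₁, S₂]
      simp only [A₁, A₂, map_inv, toAdd_inv]
      constructor <;> ring
    · refine ⟨-1, by ring, fun r' hr' y => ?_⟩
      have e : h y r' = ((s ((y : G) • r'))⁻¹ * y * s r')⁻¹ := Subtype.ext
        ((key r' hr' y).trans (hv _ (Subtype.coe_prop _) (key r' hr' y ▸ (h y r').2)))
      simp only [e, A₁, A₂, S₁, S₂, map_inv, map_mul, toAdd_inv, toAdd_mul]
      constructor <;> ring
  have hterm : ∀ (x y : H) r, A₁ (h x ((y : G) • r)) * A₂ (h y r) =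
      (A₁ x + S₁ ((y : G) • r) - S₁ ((x : G) • (y : G) • r)) *
        (A₂ y + S₂ r - S₂ ((y : G) • r)) := fun x y r => by
    obtain ⟨ε, hε, hεv⟩ := hval x r
    rw [(hεv _ (Quotient.sound' (show ((y : G) • r) ∈ MulAction.orbit H r from ⟨y, rfl⟩)) x).1,
      (hεv r rfl y).2]
    linear_combination ((A₁ x + S₁ ((y : G) • r) - S₁ ((x : G) • (y : G) • r)) *
      (A₂ y + S₂ r - S₂ ((y : G) • r))) * hε
  let F : H → ZMod p := fun x => ∑ r, S₁ ((x : G) • r) * S₂ r
  let D : ZMod p := ∑ r, S₁ r * S₂ r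
  have hsum : ∀ x y : H, f x y =
      (Nat.card (G ⧸ H) : ZMod p) * A₁ x * A₂ y + F y + F x - F (x * y) - D := by
    intro x y
    have e1 : ∀ (F' : G ⧸ H → ZMod p) (z : H), ∑ r, F' ((z : G) • r) = ∑ r, F' r := fun F' z =>
      Equiv.sum_comp (MulAction.toPerm (z : G)) F'
    have e2 : ∑ r, S₁ ((x : G) • (y : G) • r) * S₂ ((y : G) • r) = F x :=
      e1 (fun r => S₁ ((x : G) • r) * S₂ r) y
    have e3 : ∑ r, S₁ ((y : G) • r) * S₂ ((y : G) • r) = D := e1 (fun r => S₁ r * S₂ r) y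
    have e4 : ∑ r, S₁ ((x : G) • (y : G) • r) = ∑ r, S₁ r :=
      (e1 (fun r => S₁ ((x : G) • r)) y).trans (e1 S₁ x)
    have e5 : F (x * y) = ∑ r, S₁ ((x : G) • (y : G) • r) * S₂ r :=
      Finset.sum_congr rfl fun r _ => by rw [Subgroup.coe_mul, mul_smul]
    simp only [f, hterm, sub_mul, add_mul, mul_sub, mul_add, Finset.sum_add_distrib,
      Finset.sum_sub_distrib, ← Finset.sum_mul, ← Finset.mul_sum, e1 S₁ y, e1 S₂ y, e2, e3, e4,
      ← e5, Finset.sum_const, Finset.card_univ, nsmul_eq_mul, ← Nat.card_eq_fintype_card]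
    ring
  have hne : f a b ≠ f b a := fun he => by
    rw [hsum, hsum, show F (a * b) = F (b * a) by rw [show a * b = b * a from
      Subtype.ext (S.comm a a.2 b b.2)]] at he
    have h0 : (Nat.card (G ⧸ H) : ZMod p) = 0 := by
      have ha' : A₁ a = 1 := ha
      have hb' : A₂ b = 1 := hb
      have hb1' : A₁ b = 0 := hb1
      rw [ha', hb', hb1'] at he
      linear_combination he
    rw [← Subgroup.index_eq_card, ZMod.natCast_eq_zero_iff] at h0
    exact P.not_dvd_index h0
  obtain ⟨E, iG, iF, π, hπ, hcard, hcen, hpair⟩ := Cocycle.exists_extension_of_cocycle hf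
  obtain ⟨a', b', ha', hb', hnc⟩ := hpair a b (S.comm a a.2 b b.2) hne
  exact ⟨E, iG, iF, π, hπ, hcard, hcen, a', b', by rw [ha', hb', S.comm a a.2 b b.2], hnc⟩

end CfsgLib.InertialTwo
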