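import Cfsg.Agent.Lib.InertialTwo.Twist
import Cfsg.Agent.Lib.ZStar.PrincipalBlock
import Cfsg.Agent.Lib.Core.Cores
import Cfsg.Agent.Lib.Transfer.Abelian
import Cfsg.Agent.Lib.OddLocal.PLengthOne
import Mathlib.GroupTheory.Transfer

/-!
# Smith–Tyrer: abelian noncyclic Sylow subgroups with automizer of order two
-/

set_option autoImplicit false

namespace CfsgLib.InertialTwo

open Cfsg CfsgLib.Char CfsgLib.Blocks
open scoped ComplexConjugate commutatorElement

universe u

/-- An element with character value the degree acts trivially. -/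
theorem rep_eq_one {G : Type*} [Group G] [Finite G] {V : Type*} [AddCommGroup V] [Module ℂ V]
    [FiniteDimensional ℂ V] (ρ : Representation ℂ G V) (g : G)
    (h : ρ.character g = ρ.character 1) : ρ g = 1 := by
  classical
  obtain ⟨b, ε, hb, hε⟩ := Char.exists_eigenbasis ρ g
  have hnorm : ∀ i, ‖ε i‖ = 1 := fun i =>
    Complex.norm_eq_one_of_pow_eq_one (hε i) (orderOf_pos g).ne'
  have htr : ρ.character g = ∑ i, ε i := by
    rw [Representation.character, LinearMap.trace_eq_matrix_trace ℂ b, Matrix.trace]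
    refine Finset.sum_congr rfl fun i _ => ?_
    simp [Matrix.diag, LinearMap.toMatrix_apply, hb]
  rw [htr, Representation.char_one] at h
  have h1 : ∑ i, (ε i).re = ∑ _i : Fin (Module.finrank ℂ V), (1 : ℝ) := by
    rw [← Complex.re_sum, h]
    simp
  have hre : ∀ i, (ε i).re ≤ 1 := fun i => (Complex.re_le_norm _).trans (hnorm i).le
  have h2 := (Finset.sum_eq_sum_iff_of_le fun i _ => hre i).mp h1
  have hone : ∀ i, ε i = 1 := fun i => by
    have hsq : (ε i).re * (ε i).re + (ε i).im * (ε i).im = 1 := by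
      rw [← Complex.normSq_apply, Complex.normSq_eq_norm_sq, hnorm, one_pow]
    refine Complex.ext (h2 i (Finset.mem_univ i)) ?_
    rw [h2 i (Finset.mem_univ i)] at hsq
    exact mul_self_eq_zero.mp (by linarith)
  refine b.ext fun i => ?_
  rw [hb, hone, one_smul, Module.End.one_apply]

/-- The kernel of a character: the elements with the value of the degree. -/
theorem exists_kernel {G : Type*} [Group G] [Fintype G] (χ : IrrCharacter G) :
    ∃ K : Subgroup G, K.Normal ∧ ∀ g, g ∈ K ↔ (χ : G → ℂ) g = (χ : G → ℂ) 1 := by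
  obtain ⟨n, ρ, -, hc⟩ := χ.2
  refine ⟨ρ.ker, inferInstance, fun g => ?_⟩
  rw [MonoidHom.mem_ker, ← hc]
  refine ⟨fun h => by simp only [Representation.character, h, map_one], fun h => ?_⟩
  exact rep_eq_one ρ g h

/-- A normal subgroup meeting a Sylow subgroup trivially has order prime to `p`. -/
theorem coprime_card_of_inf_sylow {G : Type*} [Group G] [Finite G] {p : ℕ} [Fact p.Prime]
    (P : Sylow p G) (K : Subgroup G) [K.Normal] (h : K ⊓ (P : Subgroup G) = ⊥) :
    (Nat.card K).Coprime p := by
  refine ((Fact.out : p.Prime).coprime_iff_not_dvd.mpr fun hd => ?_).symm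
  obtain ⟨x, hx⟩ := exists_prime_orderOf_dvd_card' p hd
  have hpg : IsPGroup p (Subgroup.zpowers (x : G)) := IsPGroup.of_card (n := 1) (by
    rw [Nat.card_zpowers, Subgroup.orderOf_coe, hx, pow_one])
  obtain ⟨Q, hQ⟩ := hpg.exists_le_sylow
  obtain ⟨g, hg⟩ := MulAction.exists_smul_eq G Q P
  have h1 : g * x * g⁻¹ ∈ K ⊓ (P : Subgroup G) :=
    ⟨Subgroup.Normal.conj_mem inferInstance _ x.2 g, by
      rw [← hg]; exact ⟨x, hQ (Subgroup.mem_zpowers _), rfl⟩⟩
  rw [h, Subgroup.mem_bot, conj_eq_one_iff] at h1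
  exact (Fact.out : p.Prime).one_lt.ne' (by rw [← hx, ← Subgroup.orderOf_coe, h1, orderOf_one])

/-- With `O_{p'}(G) = 1` such a Sylow subgroup is normal. -/
theorem normal_of_setting : ∀ (n : ℕ) {G : Type u} [Group G] [Finite G] {p : ℕ} [Fact p.Prime]
    {P : Sylow p G}, Nat.card G = n → Setting p P → pPrimeCore p G = ⊥ → (P : Subgroup G).Normal := by
  intro n
  induction n using Nat.strongRecOn with
  | ind n ih =>
    intro G _ _ p _ P hn S hcore
    classical
    have := Fintype.ofFinite G
    have hp : p.Prime := Fact.out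
    obtain ⟨M, hM⟩ := CfsgLib.ZStar.exists_isPModular hp
    have := hM.2.1.isPrime
    obtain ⟨D⟩ := exists_data S hM
    obtain ⟨K, hKn, hK⟩ := exists_kernel D.Λ
    by_cases hd : D.δ * (charDegree (D.Λ : G → ℂ) : ℤ) = 1
    · -- a linear character
      have hδ : D.δ = 1 ∧ charDegree (D.Λ : G → ℂ) = 1 := by
        rcases D.hδ with h | h <;> rw [h] at hd ⊢ <;> omega
      have hone : (D.Λ : G → ℂ) 1 = 1 := by rw [apply_one_eq_charDegree, hδ.2, Nat.cast_one]
      have hsing : (P : Subgroup G) ≤ K := fun x hx => by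
        refine (hK x).mpr ?_
        by_cases hx1 : x = 1
        · rw [hx1]
        have hd' : p ∣ orderOf x := by
          obtain ⟨k, hk⟩ := isPElement S hx
          rcases k with _ | k
          · exact absurd (orderOf_eq_one_iff.mp (by rw [hk, pow_zero])) hx1
          · exact hk ▸ dvd_pow_self p (Nat.succ_ne_zero k)
        have h := D.singular x hd'
        rw [hδ.1, Int.cast_one, one_mul] at h
        rw [h, hone]
      have hKlt : Nat.card K < n := by
        refine hn ▸ lt_of_le_of_ne K.card_le_card_group fun h => D.Λ_ne ?_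
        refine irr_ext fun g => ?_
        rw [trivChar_apply, (hK g).mp ((Subgroup.eq_top_of_card_eq K h) ▸ Subgroup.mem_top g), hone]
      have hKcore : pPrimeCore p K = ⊥ := by
        have h := Core.map_subtype_pPrimeCore_le (p := p) K
        rw [hcore, le_bot_iff, Subgroup.map_eq_bot_iff, Subgroup.ker_subtype, le_bot_iff] at h
        exact h
      let P' : Sylow p K := P.subtype hsing
      have hP' : ∀ x : K, x ∈ (P' : Subgroup K) ↔ (x : G) ∈ (P : Subgroup G) := fun x => Iff.rfl
      have hnorm : ∀ m : K, m ∈ Subgroup.normalizer ((P' : Subgroup K) : Set K) →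
          (m : G) ∈ Subgroup.normalizer ((P : Subgroup G) : Set G) := fun m hm => by
        refine Subgroup.mem_normalizer_iff.mpr fun x => ?_
        constructor
        · intro hx
          exact (Subgroup.mem_normalizer_iff.mp hm ⟨x, hsing hx⟩).mp hx
        · intro hx
          have hx' : x ∈ K := by
            have e : x = (m : G)⁻¹ * ((m : G) * x * (m : G)⁻¹) * (m : G) := by group
            rw [e]
            exact mul_mem (mul_mem (inv_mem m.2) (hsing hx)) m.2
          exact (Subgroup.mem_normalizer_iff.mp hm ⟨x, hx'⟩).mpr hx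
      have hPK : (P' : Subgroup K).Normal := by
        by_cases hinv : ∃ g ∈ Subgroup.normalizer ((P' : Subgroup K) : Set K),
            ∀ x ∈ (P' : Subgroup K), g * x * g⁻¹ = x⁻¹
        · refine ih _ hKlt (G := K) (P := P') rfl ?_ hKcore
          exact
            { odd := S.odd
              comm := fun x hx y hy => Subtype.ext (S.comm _ hx _ hy)
              ncyc := fun h => S.ncyc ((Subgroup.subgroupOfEquivOfLe hsing).isCyclic.mp h)
              inv := hinv
              ctrl := fun m hm => (S.ctrl m (hnorm m hm)).imp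
                (fun h x hx => Subtype.ext (h x hx)) fun h x hx => Subtype.ext (h x hx) }
        · push Not at hinv
          have hle : Subgroup.normalizer ((P' : Subgroup K) : Set K) ≤
              Subgroup.centralizer ((P' : Subgroup K) : Set K) := fun m hm => by
            rcases S.ctrl m (hnorm m hm) with h | h
            · exact Subgroup.mem_centralizer_iff.mpr fun x hx => Subtype.ext
                (mul_inv_eq_iff_eq_mul.mp (h x hx)).symm
            · obtain ⟨x, hx, hne⟩ := hinv m hm
              exact absurd (Subtype.ext (h x hx)) hne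
          have hker := MonoidHom.not_dvd_card_ker_transferSylow P' hle
          have hbot : (MonoidHom.transferSylow P' hle).ker = ⊥ := by
            rw [eq_bot_iff, ← hKcore]
            exact Core.le_pPrimeCore ((hp.coprime_iff_not_dvd.mpr hker).symm)
          have htop : (P' : Subgroup K) = ⊤ := by
            have h := MonoidHom.ker_transferSylow_isComplement' P' hle
            rw [hbot] at h
            exact Subgroup.isComplement'_bot_left.mp h
          rw [htop]
          infer_instance
      -- `P` is characteristic in the normal subgroup `K`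
      have hPle : (P : Subgroup G) = (P' : Subgroup K).map K.subtype := by
        show _ = ((P : Subgroup G).subgroupOf K).map K.subtype
        rw [Subgroup.subgroupOf_map_subtype, inf_eq_left.mpr hsing]
      have := Sylow.characteristic_of_normal P' hPK
      rw [hPle]
      infer_instance
    · -- no such group
      exfalso
      obtain ⟨g, -, hg⟩ := S.inv
      have hgeven : 2 ∣ orderOf g := by
        by_contra hodd
        obtain ⟨k, hk⟩ : ∃ k, orderOf g = 2 * k + 1 := ⟨orderOf g / 2, by omega⟩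
        have : Nontrivial (P : Subgroup G) :=
          Finite.one_lt_card_iff_nontrivial.mp (by have := nine_le S; omega)
        obtain ⟨⟨x, hx⟩, hx1⟩ := exists_ne (1 : (P : Subgroup G))
        have hx1' : x ≠ 1 := fun e => hx1 (Subtype.ext e)
        refine inv_ne S hx hx1' ?_
        have h2 : ∀ y ∈ (P : Subgroup G), g ^ 2 * y * (g ^ 2)⁻¹ = y := fun y hy => by
          rw [show g ^ 2 * y * (g ^ 2)⁻¹ = g * (g * y * g⁻¹) * g⁻¹ by rw [pow_two]; group, hg y hy,
            hg _ (inv_mem hy), inv_inv]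
        have h2k : ∀ k : ℕ, g ^ (2 * k) * x * (g ^ (2 * k))⁻¹ = x := fun k => by
          induction k with
          | zero => simp
          | succ k ih =>
            rw [show g ^ (2 * (k + 1)) = g ^ 2 * g ^ (2 * k) by rw [← pow_add]; ring_nf,
              show g ^ 2 * g ^ (2 * k) * x * (g ^ 2 * g ^ (2 * k))⁻¹ =
                g ^ 2 * (g ^ (2 * k) * x * (g ^ (2 * k))⁻¹) * (g ^ 2)⁻¹ by group, ih, h2 x hx]
        have h1 := pow_orderOf_eq_one g
        rw [hk, pow_succ'] at h1
        calc x⁻¹ = g * x * g⁻¹ := (hg x hx).symm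
          _ = g * (g ^ (2 * k) * x * (g ^ (2 * k))⁻¹) * g⁻¹ := by rw [h2k]
          _ = (g * g ^ (2 * k)) * x * (g * g ^ (2 * k))⁻¹ := by group
          _ = x := by rw [h1]; group
      have ht : orderOf (g ^ (orderOf g / 2)) = 2 :=
        orderOf_pow_orderOf_div (orderOf_pos g).ne' hgeven
      have htK : g ^ (orderOf g / 2) ∈ K := (hK _).mpr (apply_involution_eq S hM D hd ht)
      have hKP : K ⊓ (P : Subgroup G) = ⊥ := by
        rw [eq_bot_iff]
        rintro x ⟨hxK, hxP⟩
        by_contra hx1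
        rw [Subgroup.mem_bot] at hx1
        refine hd ?_
        have hd' : p ∣ orderOf x := by
          obtain ⟨k, hk⟩ := isPElement S hxP
          rcases k with _ | k
          · exact absurd (orderOf_eq_one_iff.mp (by rw [hk, pow_zero])) hx1
          · exact hk ▸ dvd_pow_self p (Nat.succ_ne_zero k)
        have h := D.singular x hd'
        rw [(hK x).mp hxK, apply_one_eq_charDegree] at h
        exact_mod_cast h
      have hKbot : K ≤ (⊥ : Subgroup G) :=
        hcore ▸ Core.le_pPrimeCore (coprime_card_of_inf_sylow P K hKP)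
      rw [Subgroup.mem_bot.mp (hKbot htK), orderOf_one] at ht
      exact absurd ht (by norm_num)

/-- In the absence of a proper `O^p` the automizer of order two is the inversion. -/
theorem setting_of_index_two {G : Type*} [Group G] [Finite G] {p : ℕ} [Fact p.Prime] (hp : p ≠ 2)
    (P : Sylow p G) (hab : IsMulCommutative (P : Subgroup G)) (hnc : ¬ IsCyclic (P : Subgroup G))
    (hidx : ((Subgroup.centralizer ((P : Subgroup G) : Set G)).subgroupOf
      (Subgroup.normalizer ((P : Subgroup G) : Set G))).index = 2)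
    (htop : pResidual p G = ⊤) : Setting p P := by
  set C := Subgroup.centralizer ((P : Subgroup G) : Set G) with hC
  set N := Subgroup.normalizer ((P : Subgroup G) : Set G) with hN
  have hcomm : ∀ x ∈ (P : Subgroup G), ∀ y ∈ (P : Subgroup G), x * y = y * x := fun x hx y hy =>
    congrArg Subtype.val (hab.is_comm.comm ⟨x, hx⟩ ⟨y, hy⟩)
  have hfix : ∀ c ∈ C, ∀ x ∈ (P : Subgroup G), c * x * c⁻¹ = x := fun c hc x hx => by
    rw [← Subgroup.mem_centralizer_iff.mp hc x hx, mul_inv_cancel_right]
  obtain ⟨n, hn, hnC⟩ : ∃ n ∈ N, n ∉ C := by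
    by_contra hcon
    push Not at hcon
    rw [Subgroup.subgroupOf_eq_top.mpr hcon, Subgroup.index_top] at hidx
    omega
  have hconj : ∀ m ∈ N, ∀ x ∈ (P : Subgroup G), m * x * m⁻¹ ∈ (P : Subgroup G) := fun m hm x hx =>
    (Subgroup.mem_normalizer_iff.mp hm x).mp hx
  have hcoset : ∀ m ∈ N, m ∉ C → n⁻¹ * m ∈ C := fun m hm hmC => by
    have h := (Subgroup.mul_mem_iff_of_index_two hidx (a := (⟨n⁻¹, inv_mem hn⟩ : N)) (b := ⟨m, hm⟩))
    rw [Subgroup.mem_subgroupOf, Subgroup.mem_subgroupOf, Subgroup.mem_subgroupOf] at h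
    exact h.mpr ⟨fun h' => absurd (inv_mem_iff.mp h') hnC, fun h' => absurd h' hmC⟩
  have hact : ∀ m ∈ N, m ∉ C → ∀ x ∈ (P : Subgroup G), m * x * m⁻¹ = n * x * n⁻¹ :=
    fun m hm hmC x hx => by
      calc m * x * m⁻¹ = n * ((n⁻¹ * m) * x * (n⁻¹ * m)⁻¹) * n⁻¹ := by group
        _ = _ := by rw [hfix _ (hcoset m hm hmC) x hx]
  have hn2 : ∀ x ∈ (P : Subgroup G), n * (n * x * n⁻¹) * n⁻¹ = x := fun x hx => by
    have h : n * n ∈ C := by
      have := Subgroup.mul_self_mem_of_index_two hidx (⟨n, hn⟩ : N)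
      rwa [Subgroup.mem_subgroupOf] at this
    rw [show n * (n * x * n⁻¹) * n⁻¹ = (n * n) * x * (n * n)⁻¹ by group, hfix _ h x hx]
  let I : Subgroup G :=
    { carrier := {x | x ∈ (P : Subgroup G) ∧ n * x * n⁻¹ = x⁻¹}
      one_mem' := ⟨one_mem _, by group⟩
      mul_mem' := fun {a b} ha hb => ⟨mul_mem ha.1 hb.1, by
        rw [show n * (a * b) * n⁻¹ = (n * a * n⁻¹) * (n * b * n⁻¹) by group, ha.2, hb.2,
          mul_inv_rev, hcomm _ (inv_mem ha.1) _ (inv_mem hb.1)]⟩
      inv_mem' := fun {a} ha => ⟨inv_mem ha.1, by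
        rw [show n * a⁻¹ * n⁻¹ = (n * a * n⁻¹)⁻¹ by group, ha.2]⟩ }
  have hle : ⁅(P : Subgroup G), N⁆ ≤ I := by
    rw [Subgroup.commutator_le]
    intro a ha m hm
    have hw : ⁅a, m⁆ = a * (m * a⁻¹ * m⁻¹) := by rw [commutatorElement_def]; group
    rw [hw]
    by_cases hmC : m ∈ C
    · rw [hfix m hmC _ (inv_mem ha), mul_inv_cancel]
      exact one_mem I
    rw [hact m hm hmC _ (inv_mem ha)]
    have hb := hconj n hn _ (inv_mem ha)
    refine ⟨mul_mem ha hb, ?_⟩
    rw [show n * (a * (n * a⁻¹ * n⁻¹)) * n⁻¹ = (n * a * n⁻¹) * (n * (n * a⁻¹ * n⁻¹) * n⁻¹) by group,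
      hn2 _ (inv_mem ha), show (a * (n * a⁻¹ * n⁻¹))⁻¹ = (n * a * n⁻¹) * a⁻¹ by group]
  have hPI : ∀ x ∈ (P : Subgroup G), n * x * n⁻¹ = x⁻¹ := fun x hx => by
    have h : x ∈ (P : Subgroup G) ⊓ pResidual p G := ⟨hx, htop ▸ Subgroup.mem_top x⟩
    rw [CfsgLib.Transfer.inf_pResidual_eq_commutator_normalizer P hab] at h
    exact (hle h).2
  exact
    { odd := hp, comm := hcomm, ncyc := hnc, inv := ⟨n, hn, hPI⟩
      ctrl := fun m hm => by
        by_cases hmC : m ∈ C
        · exact Or.inl (hfix m hmC)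
        · exact Or.inr fun x hx => (hact m hm hmC x hx).trans (hPI x hx) }

/-- Smith–Tyrer. -/
theorem pLengthLE_one_of_setting {G : Type u} [Group G] [Finite G] {p : ℕ} [Fact p.Prime]
    {P : Sylow p G} (S : Setting p P) : PLengthLE p 1 G := by
  set O := pPrimeCore p G with hO
  let π := QuotientGroup.mk' O
  have hπ : Function.Surjective π := QuotientGroup.mk'_surjective O
  let P' : Sylow p (G ⧸ O) := P.mapSurjective hπ
  have hP' : (P' : Subgroup (G ⧸ O)) = (P : Subgroup G).map π := Sylow.coe_mapSurjective hπ P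
  have hinj : ∀ x ∈ (P : Subgroup G), π x = 1 → x = 1 := fun x hx h => by
    obtain ⟨k, hk⟩ := IsPGroup.iff_orderOf.mp P.2 ⟨x, hx⟩
    rw [Subgroup.orderOf_mk] at hk
    have h1 : orderOf x ∣ Nat.card O :=
      Subgroup.orderOf_dvd_natCard _ ((QuotientGroup.eq_one_iff x).mp h)
    exact orderOf_eq_one_iff.mp (Nat.eq_one_of_dvd_coprimes
      ((Core.coprime_card_pPrimeCore p G).symm.pow_left k) (hk ▸ dvd_refl _) h1)
  -- normalizers lift
  have hlift : ∀ m' ∈ Subgroup.normalizer ((P' : Subgroup (G ⧸ O)) : Set (G ⧸ O)),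
      ∃ m ∈ Subgroup.normalizer ((P : Subgroup G) : Set G), π m = m' := by
    intro m' hm'
    obtain ⟨m₀, rfl⟩ := hπ m'
    set U := (P : Subgroup G) ⊔ O
    have hU : ((m₀ • P : Sylow p G) : Subgroup G) ≤ U := by
      rintro _ ⟨a, ha, rfl⟩
      have h : π m₀ * π a * (π m₀)⁻¹ ∈ (P : Subgroup G).map π := by
        rw [← hP'] at *
        exact (Subgroup.mem_normalizer_iff.mp hm' _).mp (hP' ▸ Subgroup.mem_map_of_mem π ha)
      rw [← map_inv, ← map_mul, ← map_mul] at h
      have h2 : m₀ * a * m₀⁻¹ ∈ ((P : Subgroup G).map π).comap π := h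
      rw [Subgroup.comap_map_eq, QuotientGroup.ker_mk'] at h2
      exact h2
    obtain ⟨c, hc⟩ := MulAction.exists_smul_eq U ((m₀ • P : Sylow p G).subtype hU)
      (P.subtype le_sup_left)
    have hc' : (c : G) • (m₀ • P) = P := by
      rw [Sylow.smul_subtype hU] at hc
      exact Sylow.subtype_injective hc
    rw [smul_smul] at hc'
    have hN := Sylow.smul_eq_iff_mem_normalizer.mp hc'
    obtain ⟨x, hx, y, hy, hxy⟩ := Subgroup.mem_sup_of_normal_right.mp c.2
    refine ⟨x⁻¹ * ((c : G) * m₀), mul_mem (inv_mem (Subgroup.le_normalizer hx)) hN, ?_⟩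
    rw [← hxy, show x⁻¹ * (x * y * m₀) = y * m₀ by group, map_mul,
      show π y = 1 from (QuotientGroup.eq_one_iff y).mpr hy, one_mul]
  have S' : Setting p P' := by
    obtain ⟨g, hg, hgx⟩ := S.inv
    refine ⟨S.odd, ?_, ?_, ⟨π g, ?_, ?_⟩, ?_⟩
    · intro x hx y hy
      rw [hP'] at hx hy
      obtain ⟨x, hx, rfl⟩ := hx
      obtain ⟨y, hy, rfl⟩ := hy
      rw [← map_mul, ← map_mul, S.comm x hx y hy]
    · intro hcyc
      refine S.ncyc (isCyclic_of_injective
        ((π.comp (P : Subgroup G).subtype).codRestrict (P' : Subgroup (G ⧸ O)) fun x =>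
          hP' ▸ Subgroup.mem_map_of_mem π x.2) ((injective_iff_map_eq_one _).mpr fun x hx =>
            Subtype.ext (hinj x x.2 (congrArg Subtype.val hx))))
    · rw [hP']
      exact Subgroup.le_normalizer_map π ⟨g, hg, rfl⟩
    · intro x hx
      rw [hP'] at hx
      obtain ⟨x, hx, rfl⟩ := hx
      rw [← map_inv, ← map_mul, ← map_mul, hgx x hx, map_inv]
    · intro m' hm'
      obtain ⟨m, hm, rfl⟩ := hlift m' hm'
      rcases S.ctrl m hm with h | h
      · refine Or.inl fun x hx => ?_
        rw [hP'] at hx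
        obtain ⟨x, hx, rfl⟩ := hx
        rw [← map_inv, ← map_mul, ← map_mul, h x hx]
      · refine Or.inr fun x hx => ?_
        rw [hP'] at hx
        obtain ⟨x, hx, rfl⟩ := hx
        rw [← map_inv, ← map_mul, ← map_mul, h x hx, map_inv]
  have hn := normal_of_setting _ rfl S' (Core.pPrimeCore_quotient_pPrimeCore p G)
  refine OddLocal.PLengthOne.pLengthLE_one P ?_
  have h := hn.comap π
  rw [hP', Subgroup.comap_map_eq, QuotientGroup.ker_mk', sup_comm] at h
  exact h

end CfsgLib.InertialTwo
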