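import Cfsg.Agent.Lib.Blocks.Principal
import Cfsg.Agent.Lib.Blocks.FirstMain
import Cfsg.Agent.Lib.CharAction.DegreeSum
import Cfsg.Agent.Lib.Char.AbelianInertia
import Cfsg.Agent.Lib.InertialTwo.Extension
import Mathlib.GroupTheory.Transfer
import Mathlib.GroupTheory.FiniteAbelian.Duality
import Mathlib.RingTheory.RootsOfUnity.AlgebraicallyClosed

/-!
# An abelian Sylow subgroup inverted by its normalizer: the principal block

The principal block consists of the trivial character, one further character `Λ` of constant sign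
`δ` on the singular elements, and characters equal to `± (1 + δ Λ)` on the regular ones.
-/

namespace CfsgLib.InertialTwo

open Cfsg CfsgLib.Char CfsgLib.Blocks CfsgLib.Fusion
open scoped ComplexConjugate

/-- Integer vectors of norm two with pairwise products one, not all among three, form a star. -/
theorem star {ι J : Type*} [Fintype ι] [DecidableEq ι] [Nonempty J] (v : J → ι → ℤ)
    (hself : ∀ j, ∑ i, v j i * v j i = 2)
    (hcross : ∀ j k, v j ≠ v k → ∑ i, v j i * v k i = 1)
    (hmany : ∀ a b c : J, ∃ l, v l ≠ v a ∧ v l ≠ v b ∧ v l ≠ v c) :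
    ∃ a : ι, ∃ sa : ℤ, (sa = 1 ∨ sa = -1) ∧ ∀ j, ∃ e : ι, ∃ s : ℤ, e ≠ a ∧ (s = 1 ∨ s = -1) ∧
      ∀ i, v j i = if i = a then sa else if i = e then s else 0 := by
  classical
  have hunit : ∀ j i, v j i ≠ 0 → v j i = 1 ∨ v j i = -1 := fun j i h => by
    have h1 : v j i * v j i ≤ 2 :=
      (Finset.single_le_sum (f := fun i => v j i * v j i) (fun i _ => mul_self_nonneg _)
        (Finset.mem_univ i)).trans (le_of_eq (hself j))
    have h2 : -1 ≤ v j i := by nlinarith
    have h3 : v j i ≤ 1 := by nlinarith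
    omega
  let supp : J → Finset ι := fun j => Finset.univ.filter fun i => v j i ≠ 0
  have hmem : ∀ j i, i ∈ supp j ↔ v j i ≠ 0 := fun j i => by simp [supp]
  have hcard : ∀ j, (supp j).card = 2 := fun j => by
    have h := hself j
    rw [← Finset.sum_subset (Finset.subset_univ (supp j)) (fun i _ hi => by
        rw [hmem, not_not] at hi; rw [hi, zero_mul]),
      Finset.sum_congr rfl (g := fun _ => (1 : ℤ)) fun i hi => by
        rcases hunit j i ((hmem j i).mp hi) with e | e <;> rw [e] <;> norm_num,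
      Finset.sum_const, nsmul_eq_mul, mul_one] at h
    exact_mod_cast h
  have pair : ∀ j k, v j ≠ v k → ∃ x, supp j ∩ supp k = {x} ∧ v j x = v k x := fun j k hjk => by
    have h := hcross j k hjk
    rw [← Finset.sum_subset (Finset.subset_univ (supp j ∩ supp k)) (fun i _ hi => by
        simp only [Finset.mem_inter, hmem, not_and_or, not_not] at hi
        rcases hi with e | e <;> simp [e])] at h
    have hle : (supp j ∩ supp k).card ≤ 2 :=
      (Finset.card_le_card Finset.inter_subset_left).trans (hcard j).le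
    have hu : ∀ i ∈ supp j ∩ supp k, v j i * v k i = 1 ∨ v j i * v k i = -1 := fun i hi => by
      simp only [Finset.mem_inter, hmem] at hi
      rcases hunit j i hi.1 with e | e <;> rcases hunit k i hi.2 with e' | e' <;> rw [e, e'] <;> simp
    interval_cases hn : (supp j ∩ supp k).card
    · rw [Finset.card_eq_zero.mp hn, Finset.sum_empty] at h
      omega
    · obtain ⟨x, hx⟩ := Finset.card_eq_one.mp hn
      rw [hx, Finset.sum_singleton] at h
      refine ⟨x, hx, ?_⟩
      have hx' : x ∈ supp j ∩ supp k := by rw [hx]; exact Finset.mem_singleton_self x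
      simp only [Finset.mem_inter, hmem] at hx'
      rcases hunit j x hx'.1 with e | e <;> rcases hunit k x hx'.2 with e' | e' <;>
        rw [e, e'] at h ⊢ <;> omega
    · obtain ⟨x, y, hxy, hx⟩ := Finset.card_eq_two.mp hn
      rw [hx, Finset.sum_pair hxy] at h
      have := hu x (by rw [hx]; simp)
      have := hu y (by rw [hx]; simp)
      omega
  obtain ⟨j₀⟩ := (inferInstance : Nonempty J)
  obtain ⟨j₁, hj, -, -⟩ := hmany j₀ j₀ j₀
  obtain ⟨a, hI, -⟩ := pair j₀ j₁ (Ne.symm hj)
  have ha : v j₀ a ≠ 0 ∧ v j₁ a ≠ 0 := by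
    have : a ∈ supp j₀ ∩ supp j₁ := by rw [hI]; exact Finset.mem_singleton_self a
    simpa only [Finset.mem_inter, hmem] using this
  -- every vector meets `a`
  have hall : ∀ k, v k a ≠ 0 := fun k => by
    by_contra hk
    have hk0 : v k ≠ v j₀ := fun e => ha.1 (e ▸ hk)
    have hk1 : v k ≠ v j₁ := fun e => ha.2 (e ▸ hk)
    obtain ⟨b, hb, -⟩ := pair k j₀ hk0
    obtain ⟨c, hc, -⟩ := pair k j₁ hk1
    have hb' : b ∈ supp k ∧ b ∈ supp j₀ := by rw [← Finset.mem_inter, hb, Finset.mem_singleton]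
    have hc' : c ∈ supp k ∧ c ∈ supp j₁ := by rw [← Finset.mem_inter, hc, Finset.mem_singleton]
    have hba : b ≠ a := fun e => (hmem k a).not.mpr (not_not.mpr hk) (e ▸ hb'.1)
    have hca : c ≠ a := fun e => (hmem k a).not.mpr (not_not.mpr hk) (e ▸ hc'.1)
    have hbc : b ≠ c := fun e => hba (Finset.mem_singleton.mp
      (hI ▸ Finset.mem_inter.mpr ⟨hb'.2, e ▸ hc'.2⟩))
    have two : ∀ j x y, x ≠ y → x ∈ supp j → y ∈ supp j → supp j = {x, y} := fun j x y hxy hx hy =>
      (Finset.eq_of_subset_of_card_le (by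
        intro i hi
        rcases Finset.mem_insert.mp hi with rfl | hi
        · exact hx
        · rwa [Finset.mem_singleton.mp hi]) (by rw [hcard, Finset.card_pair hxy])).symm
    have e0 := two j₀ a b hba.symm ((hmem _ _).mpr ha.1) hb'.2
    have e1 := two j₁ a c hca.symm ((hmem _ _).mpr ha.2) hc'.2
    have ek := two k b c hbc hb'.1 hc'.1
    obtain ⟨l, l0, l1, lk⟩ := hmany j₀ j₁ k
    obtain ⟨x, hx, -⟩ := pair l j₀ l0
    obtain ⟨y, hy, -⟩ := pair l j₁ l1
    obtain ⟨z, hz, -⟩ := pair l k lk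
    have no : ∀ j, v l ≠ v j → supp l ≠ supp j := fun j hjl e => by
      obtain ⟨w, hw, -⟩ := pair l j hjl
      have := hcard j
      rw [e, Finset.inter_self] at hw
      rw [hw, Finset.card_singleton] at this
      omega
    have hx' : x ∈ supp l ∧ x ∈ supp j₀ := by rw [← Finset.mem_inter, hx, Finset.mem_singleton]
    have hy' : y ∈ supp l ∧ y ∈ supp j₁ := by rw [← Finset.mem_inter, hy, Finset.mem_singleton]
    have hz' : z ∈ supp l ∧ z ∈ supp k := by rw [← Finset.mem_inter, hz, Finset.mem_singleton]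
    rw [e0, Finset.mem_insert, Finset.mem_singleton] at hx'
    rw [e1, Finset.mem_insert, Finset.mem_singleton] at hy'
    rw [ek, Finset.mem_insert, Finset.mem_singleton] at hz'
    rcases hx'.2 with rfl | rfl <;> rcases hy'.2 with rfl | rfl <;> rcases hz'.2 with rfl | rfl
    all_goals first
      | exact no j₀ l0 ((two l _ _ hba.symm hx'.1 hz'.1).trans e0.symm)
      | exact no j₁ l1 ((two l _ _ hca.symm hx'.1 hz'.1).trans e1.symm)
      | exact no j₀ l0 ((two l _ _ hba.symm hy'.1 hx'.1).trans e0.symm)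
      | exact no k lk ((two l _ _ hbc hx'.1 hy'.1).trans ek.symm)
  have hsame : ∀ k, v k a = v j₀ a := fun k => by
    by_cases h : v k = v j₀
    · rw [h]
    · obtain ⟨x, hx, hval⟩ := pair k j₀ h
      rwa [show a = x from Finset.mem_singleton.mp
        (hx ▸ Finset.mem_inter.mpr ⟨(hmem _ _).mpr (hall k), (hmem _ _).mpr ha.1⟩)]
  refine ⟨a, v j₀ a, hunit _ _ ha.1, fun j => ?_⟩
  obtain ⟨e, he⟩ := Finset.card_eq_one.mp (show ((supp j).erase a).card = 1 by
    rw [Finset.card_erase_of_mem ((hmem _ _).mpr (hall j)), hcard])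
  have he' : e ∈ (supp j).erase a := by rw [he]; exact Finset.mem_singleton_self e
  rw [Finset.mem_erase, hmem] at he'
  refine ⟨e, v j e, he'.1, hunit _ _ he'.2, fun i => ?_⟩
  split_ifs with h1 h2
  · rw [h1, hsame]
  · rw [h2]
  · by_contra h
    have : i ∈ (supp j).erase a := Finset.mem_erase.mpr ⟨h1, (hmem _ _).mpr h⟩
    rw [he, Finset.mem_singleton] at this
    exact h2 this

universe u

variable {G : Type u} [Group G] [Fintype G] {p : ℕ} [Fact p.Prime] {P : Sylow p G}
  (S : Setting p P)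
include S

theorem le_centralizer_self :
    (P : Subgroup G) ≤ Subgroup.centralizer ((P : Subgroup G) : Set G) :=
  fun _ hx => Subgroup.mem_centralizer_iff.mpr fun y hy => S.comm y hy _ hx

theorem le_centralizer {y : G} (hy : y ∈ (P : Subgroup G)) :
    (P : Subgroup G) ≤ Subgroup.centralizer ({y} : Set G) :=
  fun x hx => Subgroup.mem_centralizer_singleton_iff.mpr (S.comm x hx y hy)

theorem inv_ne {y : G} (hy : y ∈ (P : Subgroup G)) (hy1 : y ≠ 1) : y⁻¹ ≠ y := fun e => by
  obtain ⟨k, hk⟩ := IsPGroup.iff_orderOf.mp P.2 ⟨y, hy⟩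
  rw [Subgroup.orderOf_mk] at hk
  have h2 : orderOf y ∣ 2 := orderOf_dvd_of_pow_eq_one (by
    rw [pow_two]
    exact inv_eq_iff_mul_eq_one.mp e)
  rcases k with _ | k
  · exact hy1 (orderOf_eq_one_iff.mp (by rw [hk, pow_zero]))
  · rw [hk] at h2
    exact S.odd ((Nat.prime_dvd_prime_iff_eq Fact.out Nat.prime_two).mp
      ((dvd_pow_self p (Nat.succ_ne_zero k)).trans h2))

theorem fpf {y : G} (hy : y ∈ (P : Subgroup G)) (hy1 : y ≠ 1) {n : G}
    (hn : n ∈ Subgroup.centralizer ({y} : Set G))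
    (hnN : n ∈ Subgroup.normalizer ((P : Subgroup G) : Set G)) :
    n ∈ Subgroup.centralizer ((P : Subgroup G) : Set G) := by
  rcases S.ctrl n hnN with h | h
  · exact Subgroup.mem_centralizer_iff.mpr fun x hx => (mul_inv_eq_iff_eq_mul.mp (h x hx)).symm
  · refine absurd ((h y hy).symm.trans ?_) (inv_ne S hy hy1)
    rw [Subgroup.mem_centralizer_singleton_iff.mp hn, mul_inv_cancel_right]

theorem eq_or_eq_inv_of_isConj {x y : (P : Subgroup G)} (h : IsConj (x : G) y) :
    y = x ∨ y = x⁻¹ := by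
  obtain ⟨u, hu⟩ := isConj_iff.mp h
  have e : (u⁻¹)⁻¹ = u := inv_inv u
  have hval : u⁻¹⁻¹ * (x : G) * u⁻¹ = (y : G) := by rw [e, hu]
  rcases conj_sign S u⁻¹ with h1 | h1
  · exact Or.inl (Subtype.ext (hval.symm.trans (h1 x x.2 (hval.symm ▸ y.2))))
  · exact Or.inr (Subtype.ext (hval.symm.trans (h1 x x.2 (hval.symm ▸ y.2))))

theorem isConj_inv (x : (P : Subgroup G)) : IsConj (x : G) (x : G)⁻¹ := by
  obtain ⟨g, -, hg⟩ := S.inv
  exact isConj_iff.mpr ⟨g, hg x x.2⟩

theorem nine_le : 9 ≤ Nat.card (P : Subgroup G) := by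
  obtain ⟨k, hk⟩ := IsPGroup.iff_card.mp P.2
  have hp : 3 ≤ p := by
    have := (Fact.out : p.Prime).two_le
    have := S.odd
    omega
  rcases k with _ | _ | k
  · exact absurd (by
      have : Subsingleton (P : Subgroup G) := (Nat.card_eq_one_iff_unique.mp (by simpa using hk)).1
      infer_instance) S.ncyc
  · exact absurd (isCyclic_of_prime_card (α := (P : Subgroup G)) (p := p) (by simpa using hk)) S.ncyc
  · rw [hk]
    calc 9 = 3 ^ 2 := rfl
      _ ≤ p ^ 2 := Nat.pow_le_pow_left hp 2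
      _ ≤ _ := Nat.pow_le_pow_right (by omega) (by omega)

theorem isPElement {x : G} (hx : x ∈ (P : Subgroup G)) : ∃ k : ℕ, orderOf x = p ^ k := by
  obtain ⟨k, hk⟩ := IsPGroup.iff_orderOf.mp P.2 ⟨x, hx⟩
  exact ⟨k, by rw [← hk, ← Subgroup.orderOf_coe]⟩

section Block

variable {M : Ideal AlgInt} [M.IsPrime] (hM : IsPModular p M)

/-- Burnside: a normal `p`-complement in the centralizer of an element of `P`, with `P` as
quotient. -/
theorem exists_complement {y : G} (hy : y ∈ (P : Subgroup G)) (hy1 : y ≠ 1) :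
    ∃ f : Subgroup.centralizer ({y} : Set G) →* (P : Subgroup G),
      (∀ x : Subgroup.centralizer ({y} : Set G), ∀ h : (x : G) ∈ (P : Subgroup G), f x = ⟨x, h⟩) ∧
        ¬ p ∣ Nat.card f.ker ∧ f.ker.index = Nat.card (P : Subgroup G) := by
  let Cy := Subgroup.centralizer ({y} : Set G)
  let P' : Sylow p Cy := P.subtype (le_centralizer S hy)
  have hP' : Subgroup.normalizer ((P' : Subgroup Cy) : Set Cy) ≤
      Subgroup.centralizer ((P' : Subgroup Cy) : Set Cy) := fun n hn => by
    have hnG : (n : G) ∈ Subgroup.normalizer ((P : Subgroup G) : Set G) := by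
      refine Subgroup.mem_normalizer_iff.mpr fun x => ?_
      constructor
      · intro hx
        exact (Subgroup.mem_normalizer_iff.mp hn ⟨x, le_centralizer S hy hx⟩).mp hx
      · intro hx
        have hx' : x ∈ Cy := by
          have : x = (n : G)⁻¹ * ((n : G) * x * (n : G)⁻¹) * (n : G) := by group
          rw [this]
          exact mul_mem (mul_mem (inv_mem n.2) (le_centralizer S hy hx)) n.2
        exact (Subgroup.mem_normalizer_iff.mp hn ⟨x, hx'⟩).mpr hx
    have hc : (n : G) ∈ Subgroup.centralizer ((P : Subgroup G) : Set G) :=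
      fpf S hy hy1 n.2 hnG
    exact Subgroup.mem_centralizer_iff.mpr fun x hx => Subtype.ext
      (Subgroup.mem_centralizer_iff.mp hc x hx)
  let τ := MonoidHom.transferSylow P' hP'
  have hbij : Function.Bijective (τ.domRestrict (P' : Subgroup Cy)) := by
    rw [MonoidHom.transferSylow_domRestrict_eq_pow]
    exact (P'.2.powEquiv' P'.not_dvd_index).bijective
  let e := MulEquiv.ofBijective _ hbij
  let ι : (P' : Subgroup Cy) ≃* (P : Subgroup G) := Subgroup.subgroupOfEquivOfLe (le_centralizer S hy)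
  let f : Cy →* (P : Subgroup G) := ι.toMonoidHom.comp (e.symm.toMonoidHom.comp τ)
  have hker : f.ker = τ.ker := by
    ext x
    simp [f, MonoidHom.mem_ker]
  refine ⟨f, fun x h => ?_, ?_, ?_⟩
  · have h1 : e ⟨x, h⟩ = τ x := rfl
    show ι (e.symm (τ x)) = _
    rw [← h1, e.symm_apply_apply]
    rfl
  · rw [hker]
    exact MonoidHom.not_dvd_card_ker_transferSylow P' hP'
  · rw [hker, (MonoidHom.ker_transferSylow_isComplement' P' hP').symm.index_eq_card]
    exact Nat.card_congr ι.toEquiv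

include hM

/-- A principal block character is constant on the section of an element of `P`. -/
theorem apply_eq_pPart {χ : IrrCharacter G} (hχ : χ ∈ principalBlock M G) {z y : G}
    (hz : IsPPart p z y) (hy : y ∈ (P : Subgroup G)) (hy1 : y ≠ 1) :
    (χ : G → ℂ) z = (χ : G → ℂ) y := by
  obtain ⟨v, rfl, hc, hk, hv⟩ := hz
  obtain ⟨f, -, hker, -⟩ := exists_complement S hy hy1
  let v' : Subgroup.centralizer ({y} : Set G) :=
    ⟨v, Subgroup.mem_centralizer_singleton_iff.mpr hc.eq.symm⟩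
  have := Fintype.ofFinite (Subgroup.centralizer ({y} : Set G))
  refine apply_mul_eq_of_mem_principalBlock hM hk hχ (N := f.ker) hker (v := v') ?_
  rw [MonoidHom.mem_ker]
  obtain ⟨k, hk⟩ := IsPGroup.iff_orderOf.mp P.2 (f v')
  have h1 : orderOf (f v') ∣ orderOf v' := orderOf_map_dvd f v'
  rw [← orderOf_eq_one_iff, hk]
  rcases k with _ | k
  · exact pow_zero p
  · exfalso
    refine hv ((dvd_pow_self p (Nat.succ_ne_zero k)).trans ?_)
    rw [← hk]
    exact h1.trans (by rw [show v = (v' : G) from rfl, Subgroup.orderOf_coe])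

/-- The column norm at a nontrivial element of `P`. -/
theorem sum_norm {y : G} (hy : y ∈ (P : Subgroup G)) (hy1 : y ≠ 1) :
    ∑ᶠ χ ∈ principalBlock M G, (χ : G → ℂ) y * (χ : G → ℂ) y⁻¹ =
      (Nat.card (P : Subgroup G) : ℂ) := by
  classical
  let Cy := Subgroup.centralizer ({y} : Set G)
  have := Fintype.ofFinite Cy
  have := Fintype.ofFinite (IrrCharacter Cy)
  obtain ⟨f, hf, hker, hidx⟩ := exists_complement S hy hy1
  have hy' := isPElement S hy
  have h1 := sum_principalBlock_norm_sq hM (x := y) hy' (y := (1 : Cy)) (by simp [hM.1.ne_one])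
  rw [OneMemClass.coe_one, mul_one] at h1
  have hB := isPBlock_principalBlock (G := Cy) (M := M)
  set T := ∑ᶠ ψ ∈ principalBlock M Cy, charDegree (ψ : Cy → ℂ) ^ 2 with hT
  have hTle : T ≤ Nat.card (P : Subgroup G) := by
    rw [← hidx, ← sum_degree_sq_trivial f.ker, hT,
      finsum_mem_eq_finite_toFinset_sum _ (Set.toFinite _)]
    refine Finset.sum_le_sum_of_subset fun ψ hψ => Finset.mem_filter.mpr ⟨Finset.mem_univ _, ?_⟩
    exact apply_eq_of_mem_principalBlock f.ker hM hker ((Set.Finite.mem_toFinset _).mp hψ)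
  have hTpos : 0 < T := by
    rw [hT, finsum_mem_eq_finite_toFinset_sum _ (Set.toFinite _)]
    exact Finset.sum_pos' (fun _ _ => Nat.zero_le _)
      ⟨Char.trivChar Cy, (Set.Finite.mem_toFinset _).mpr trivChar_mem_principalBlock,
        pow_pos (charDegree_pos _) 2⟩
  have hTval : T = Nat.card (P : Subgroup G) := by
    refine le_antisymm hTle (Nat.le_of_dvd hTpos ?_)
    have hfac := CharAction.factorization_sum_degree_sq hM hB
    have hdef : blockDefect p (principalBlock M Cy) = (Nat.card Cy).factorization p := by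
      have h0 : (0 : ℕ) ∈ ((fun χ : IrrCharacter Cy =>
          (charDegree (χ : Cy → ℂ)).factorization p) '' principalBlock M Cy) :=
        ⟨Char.trivChar Cy, trivChar_mem_principalBlock, by simp [charDegree, Char.trivChar_apply]⟩
      rw [blockDefect, Nat.sInf_eq_zero.mpr (Or.inl h0), Nat.sub_zero]
    rw [hdef, ← hT] at hfac
    have hP' : Nat.card (P : Subgroup G) = p ^ (Nat.card Cy).factorization p := by
      rw [← (P.subtype (le_centralizer S hy)).card_eq_multiplicity]
      exact (Nat.card_congr (Subgroup.subgroupOfEquivOfLe (le_centralizer S hy)).toEquiv).symm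
    rw [hP', show (Nat.card Cy).factorization p = T.factorization p by omega]
    exact Nat.ordProj_dvd T p
  have h2 : (∑ᶠ ψ ∈ principalBlock M Cy, ‖(ψ : Cy → ℂ) 1‖ ^ 2 : ℝ) = (T : ℝ) := by
    rw [hT, finsum_mem_eq_finite_toFinset_sum _ (Set.toFinite _),
      finsum_mem_eq_finite_toFinset_sum _ (Set.toFinite _), Nat.cast_sum]
    refine Finset.sum_congr rfl fun ψ _ => ?_
    rw [apply_one_eq_charDegree, Complex.norm_natCast, Nat.cast_pow]
  rw [h2, hTval] at h1
  rw [show (Nat.card (P : Subgroup G) : ℂ) = ((Nat.card (P : Subgroup G) : ℝ) : ℂ) by simp, ← h1,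
    finsum_mem_eq_finite_toFinset_sum _ (Set.toFinite _),
    finsum_mem_eq_finite_toFinset_sum _ (Set.toFinite _), Complex.ofReal_sum]
  refine Finset.sum_congr rfl fun χ _ => ?_
  rw [IsIrr.map_inv χ.2, Complex.mul_conj', Complex.ofReal_pow]


open scoped Classical in
/-- Column orthogonality on `P`. -/
theorem sum_orth (x : (P : Subgroup G)) (hx : x ≠ 1) (x' : (P : Subgroup G)) (hx' : x' ≠ 1) :
    ∑ᶠ χ ∈ principalBlock M G, (χ : G → ℂ) x * conj ((χ : G → ℂ) x') =
      (Nat.card (P : Subgroup G) : ℂ) * ((if x' = x then 1 else 0) +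
        (if x' = x⁻¹ then 1 else 0)) := by
  classical
  have hconv : ∀ χ : IrrCharacter G, conj ((χ : G → ℂ) x') = (χ : G → ℂ) (x' : G)⁻¹ :=
    fun χ => (IsIrr.map_inv χ.2 _).symm
  simp only [hconv]
  have hx1 : (x : G) ≠ 1 := fun e => hx (Subtype.ext e)
  have n1 : x⁻¹ ≠ x := fun e => inv_ne S x.2 hx1 (congrArg Subtype.val e)
  by_cases h : x' = x ∨ x' = x⁻¹
  · have hv : ∀ χ : IrrCharacter G, (χ : G → ℂ) (x' : G)⁻¹ = (χ : G → ℂ) (x : G)⁻¹ := fun χ => by
      rcases h with rfl | rfl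
      · rfl
      · rw [Subgroup.coe_inv, inv_inv]
        exact isClassFunction_iff_isConj.mp (IsIrr.isClassFunction χ.2) _ _ (isConj_inv S x)
    simp only [hv]
    rw [sum_norm S hM x.2 hx1]
    rcases h with rfl | rfl <;> simp [n1, Ne.symm n1]
  · have h0 : ∑ᶠ χ ∈ principalBlock M G, (χ : G → ℂ) x * (χ : G → ℂ) (x' : G)⁻¹ = 0 := by
      refine sum_block_apply_mul_eq_zero hM isPBlock_principalBlock
        (u := (x : G)) (v := (x' : G)) ⟨1, mul_one _, Commute.one_right _, isPElement S x.2, by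
          simp [hM.1.ne_one]⟩ ⟨1, mul_one _, Commute.one_right _, isPElement S x'.2, by
          simp [hM.1.ne_one]⟩ fun hc => h (eq_or_eq_inv_of_isConj S hc)
    rw [h0]
    simp only [not_or] at h
    simp [h.1, h.2]

/-- Orthogonality of the singular elements of `P` to the regular ones. -/
theorem sum_regular {x : (P : Subgroup G)} (hx : x ≠ 1) {r : G} (hr : ¬ p ∣ orderOf r) :
    ∑ᶠ χ ∈ principalBlock M G, (χ : G → ℂ) r * (χ : G → ℂ) x = 0 := by
  refine sum_block_regular_singular hM isPBlock_principalBlock hr ?_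
  obtain ⟨k, hk⟩ := isPElement S x.2
  rcases k with _ | k
  · rw [pow_zero, orderOf_eq_one_iff] at hk
    exact absurd (Subtype.ext hk) hx
  · rw [hk]
    exact dvd_pow_self p (Nat.succ_ne_zero k)

end Block

/-- The linear characters of `P`. -/
abbrev Lin (_ : Setting p P) := (P : Subgroup G) →* ℂˣ

theorem sum_apply_lin [Fintype (Lin S)] [DecidableEq (P : Subgroup G)] (x : (P : Subgroup G)) :
    ∑ ψ : Lin S, (ψ x : ℂ) = if x = 1 then (Nat.card (P : Subgroup G) : ℂ) else 0 := by
  letI : CommGroup (P : Subgroup G) :=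
    { (inferInstance : Group (P : Subgroup G)) with
      mul_comm := fun a b => Subtype.ext (S.comm a a.2 b b.2) }
  split_ifs with h
  · subst h
    obtain ⟨e⟩ := CommGroup.monoidHom_mulEquiv_of_hasEnoughRootsOfUnity (P : Subgroup G) ℂ
    simp [← Nat.card_congr e.toEquiv, Nat.card_eq_fintype_card]
  · obtain ⟨φ, hφ⟩ := CommGroup.exists_apply_ne_one_of_hasEnoughRootsOfUnity (P : Subgroup G) ℂ h
    have key : ∑ ψ : Lin S, (ψ x : ℂ) = (φ x : ℂ) * ∑ ψ : Lin S, (ψ x : ℂ) := by
      rw [Finset.mul_sum]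
      exact (Fintype.sum_equiv (Equiv.mulLeft φ) (fun ψ : Lin S => (φ x : ℂ) * (ψ x : ℂ))
        (fun ψ : Lin S => (ψ x : ℂ)) fun ψ => by simp).symm
    have h1 : ((φ x : ℂ) - 1) * ∑ ψ : Lin S, (ψ x : ℂ) = 0 := by
      rw [sub_mul, one_mul, ← key, sub_self]
    exact (mul_eq_zero.mp h1).resolve_left fun e => hφ (Units.ext (sub_eq_zero.mp e))

theorem finite_lin : Finite (Lin S) :=
  Finite.of_injective (fun l => (⟨_, isIrrCharacter_linear l⟩ : IrrCharacter (P : Subgroup G)))
    fun _ _ h => MonoidHom.ext fun x => Units.ext (congrFun (congrArg Subtype.val h) x)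

theorem sum_apply [Fintype (P : Subgroup G)] (ψ : Lin S) [Decidable (ψ = 1)] :
    ∑ x : (P : Subgroup G), (ψ x : ℂ) = if ψ = 1 then (Nat.card (P : Subgroup G) : ℂ) else 0 := by
  split_ifs with h
  · subst h
    simp [Nat.card_eq_fintype_card]
  · obtain ⟨a, ha⟩ : ∃ a, ψ a ≠ 1 := by
      by_contra hall
      push Not at hall
      exact h (MonoidHom.ext hall)
    have key : ∑ x : (P : Subgroup G), (ψ x : ℂ) = (ψ a : ℂ) * ∑ x : (P : Subgroup G), (ψ x : ℂ) := by
      rw [Finset.mul_sum]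
      exact (Fintype.sum_equiv (Equiv.mulLeft a) (fun x => (ψ a : ℂ) * (ψ x : ℂ))
        (fun x => (ψ x : ℂ)) fun x => by simp).symm
    have h1 : ((ψ a : ℂ) - 1) * ∑ x : (P : Subgroup G), (ψ x : ℂ) = 0 := by
      rw [sub_mul, one_mul, ← key, sub_self]
    exact (mul_eq_zero.mp h1).resolve_left fun e => ha (Units.ext (sub_eq_zero.mp e))

/-- The coefficient of a class function on `P`. -/
noncomputable def coef [Fintype (P : Subgroup G)] (χ : G → ℂ) (ψ : Lin S) : ℂ :=
  (Nat.card (P : Subgroup G) : ℂ)⁻¹ * ∑ x : (P : Subgroup G), χ x * (conj (ψ x : ℂ) - 1)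

section Coef

variable [Fintype (P : Subgroup G)]

theorem coef_int (χ : IrrCharacter G) (ψ : Lin S) : ∃ n : ℤ, coef S (χ : G → ℂ) ψ = n := by
  obtain ⟨a, ha⟩ := IsChar.classInner_eq_natCast (IsChar.restrict _ (IsIrr.isCharacter χ.2))
    (IsIrr.isCharacter (isIrrCharacter_linear ψ))
  obtain ⟨b, hb⟩ := IsChar.classInner_eq_natCast
    (IsChar.restrict (P : Subgroup G) (IsIrr.isCharacter χ.2)) isCharacter_one
  refine ⟨(a : ℤ) - b, ?_⟩
  push_cast
  rw [← ha, ← hb]
  simp only [coef, Cfsg.classInner, mul_sub, Finset.sum_sub_distrib, map_one]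

theorem coef_inv (χ : IrrCharacter G) (ψ : Lin S) :
    coef S (χ : G → ℂ) ψ⁻¹ = coef S (χ : G → ℂ) ψ := by
  simp only [coef]
  congr 1
  refine Fintype.sum_equiv (Equiv.inv _) _ _ fun x => ?_
  simp only [Equiv.inv_apply, MonoidHom.inv_apply, map_inv, Subgroup.coe_inv]
  rw [isClassFunction_iff_isConj.mp (IsIrr.isClassFunction χ.2) _ _ (isConj_inv S x)]

theorem apply_eq_sum_coef [Fintype (Lin S)] (χ : G → ℂ) {x : (P : Subgroup G)} (hx : x ≠ 1) :
    χ x = ∑ ψ : Lin S, coef S χ ψ * (ψ x : ℂ) := by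
  classical
  have hcard : (Nat.card (P : Subgroup G) : ℂ) ≠ 0 := Nat.cast_ne_zero.mpr Nat.card_pos.ne'
  have hconj : ∀ (ψ : Lin S) (z : (P : Subgroup G)), conj (ψ z : ℂ) = (ψ z⁻¹ : ℂ) := fun ψ z =>
    (IsIrr.map_inv (isIrrCharacter_linear ψ) z).symm
  simp only [coef, mul_assoc, Finset.sum_mul, ← Finset.mul_sum]
  rw [Finset.sum_comm]
  have : ∀ z : (P : Subgroup G), ∑ ψ : Lin S, χ z * ((conj (ψ z : ℂ) - 1) * (ψ x : ℂ)) =
      if z = x then χ x * (Nat.card (P : Subgroup G) : ℂ) else 0 := fun z => by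
    simp only [hconj, sub_mul, one_mul, ← Units.val_mul, ← map_mul, mul_sub,
      Finset.sum_sub_distrib, ← Finset.mul_sum, sum_apply_lin S, if_neg hx, mul_zero, sub_zero,
      inv_mul_eq_one]
    split_ifs with h <;> simp [h]
  rw [Finset.sum_congr rfl fun z _ => this z, Finset.sum_ite_eq' Finset.univ x,
    if_pos (Finset.mem_univ x), mul_comm (χ x), ← mul_assoc, inv_mul_cancel₀ hcard, one_mul]

theorem coef_triv {ψ : Lin S} (hψ : ψ ≠ 1) : coef S (Char.trivChar G : G → ℂ) ψ = -1 := by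
  classical
  have hconj : ∀ z : (P : Subgroup G), conj (ψ z : ℂ) = (ψ z⁻¹ : ℂ) := fun z =>
    (IsIrr.map_inv (isIrrCharacter_linear ψ) z).symm
  have h0 : ∑ z : (P : Subgroup G), (ψ z⁻¹ : ℂ) = 0 := by
    rw [Fintype.sum_equiv (Equiv.inv _) (fun z => (ψ z⁻¹ : ℂ)) (fun z => (ψ z : ℂ)) fun z => rfl,
      sum_apply, if_neg hψ]
  simp only [coef, trivChar_apply, one_mul, Finset.sum_sub_distrib, hconj, h0, Finset.sum_const,
    Finset.card_univ, nsmul_eq_mul, mul_one, Nat.card_eq_fintype_card, zero_sub, mul_neg]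
  rw [inv_mul_cancel₀]
  exact Nat.cast_ne_zero.mpr Fintype.card_ne_zero

variable {M : Ideal AlgInt} [M.IsPrime] (hM : IsPModular p M)
include hM

/-- The Gram matrix of the coefficients. -/
theorem coef_gram [DecidableEq (Lin S)] {ψ φ : Lin S} (hψ : ψ ≠ 1) (hφ : φ ≠ 1) :
    ∑ᶠ χ ∈ principalBlock M G, coef S (χ : G → ℂ) ψ * conj (coef S (χ : G → ℂ) φ) =
      2 + ((if ψ = φ then 1 else 0) + (if ψ = φ⁻¹ then 1 else 0)) := by
  classical
  set n : ℂ := (Nat.card (P : Subgroup G) : ℂ) with hn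
  have hn0 : n ≠ 0 := Nat.cast_ne_zero.mpr Nat.card_pos.ne'
  set K := (Set.toFinite (principalBlock M G)).toFinset
  rw [finsum_mem_eq_finite_toFinset_sum _ (Set.toFinite _)]
  let f : Lin S → ↥(P : Subgroup G) → ℂ := fun η x => conj (η x : ℂ) - 1
  have hf1 : ∀ η, f η 1 = 0 := fun η => by simp [f]
  have hrow : ∀ x : (P : Subgroup G), x ≠ 1 →
      ∑ x' : (P : Subgroup G), conj (f φ x') * ∑ χ ∈ K, (χ : G → ℂ) x * conj ((χ : G → ℂ) x') =
        n * (conj (f φ x) + conj (f φ x⁻¹)) := by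
    intro x hx
    have h : ∀ x' : (P : Subgroup G),
        conj (f φ x') * ∑ χ ∈ K, (χ : G → ℂ) x * conj ((χ : G → ℂ) x') =
        n * ((if x' = x then conj (f φ x') else 0) +
          (if x' = x⁻¹ then conj (f φ x') else 0)) := fun x' => by
      by_cases hx' : x' = 1
      · subst hx'
        simp [hf1]
      · have := sum_orth S hM x hx x' hx'
        rw [finsum_mem_eq_finite_toFinset_sum _ (Set.toFinite _)] at this
        rw [this]
        split_ifs <;> ring
    rw [Finset.sum_congr rfl fun x' _ => h x', ← Finset.mul_sum, Finset.sum_add_distrib,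
      Finset.sum_ite_eq', Finset.sum_ite_eq']
    simp
  have key : ∀ η : Lin S, η ≠ 1 → n⁻¹ * ∑ x : (P : Subgroup G), f ψ x * conj (f η x) =
      (if ψ = η then 1 else 0) + 1 := fun η hη => by
    have hmul : ∀ x : (P : Subgroup G), conj (ψ x : ℂ) * (η x : ℂ) = (((η * ψ⁻¹) x : ℂˣ) : ℂ) := fun x => by
      rw [show conj (ψ x : ℂ) = (ψ x⁻¹ : ℂ) from (IsIrr.map_inv (isIrrCharacter_linear ψ) x).symm,
        MonoidHom.mul_apply, MonoidHom.inv_apply, map_inv, Units.val_mul, mul_comm]
    have hc : ∀ x : (P : Subgroup G), conj (ψ x : ℂ) = ((ψ⁻¹ x : ℂˣ) : ℂ) := fun x => by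
      rw [show conj (ψ x : ℂ) = (ψ x⁻¹ : ℂ) from (IsIrr.map_inv (isIrrCharacter_linear ψ) x).symm,
        MonoidHom.inv_apply, map_inv]
    simp only [f, map_sub, Complex.conj_conj, map_one, sub_mul, mul_sub, one_mul, mul_one, hmul,
      Finset.sum_sub_distrib]
    have e1 : ∑ x : (P : Subgroup G), (((η * ψ⁻¹) x : ℂˣ) : ℂ) = if ψ = η then n else 0 := by
      rw [sum_apply S]
      by_cases h : ψ = η
      · subst h; rw [if_pos (mul_inv_cancel ψ), if_pos rfl]
      · rw [if_neg fun e => h (mul_inv_eq_one.mp e).symm, if_neg h]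
    have e2 : ∑ x : (P : Subgroup G), conj (ψ x : ℂ) = 0 := by
      rw [← map_sum, sum_apply S, if_neg hψ, map_zero]
    have e3 : ∑ x : (P : Subgroup G), (η x : ℂ) = 0 := by rw [sum_apply S, if_neg hη]
    rw [e1, e2, e3, Finset.sum_const, Finset.card_univ, nsmul_eq_mul, mul_one,
      ← Nat.card_eq_fintype_card, ← hn]
    split_ifs with h1 <;> field_simp <;> ring
  have hexp : ∀ χ : IrrCharacter G, coef S (χ : G → ℂ) ψ * conj (coef S (χ : G → ℂ) φ) =
      n⁻¹ * n⁻¹ * ∑ x : (P : Subgroup G), f ψ x * ∑ x' : (P : Subgroup G),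
        conj (f φ x') * ((χ : G → ℂ) x * conj ((χ : G → ℂ) x')) := fun χ => by
    simp only [coef, ← hn, map_mul, map_inv₀, map_sum, f, Finset.mul_sum, Finset.sum_mul]
    rw [show conj n = n from Complex.conj_natCast _]
    rw [Finset.sum_comm]
    exact Finset.sum_congr rfl fun x _ => Finset.sum_congr rfl fun x' _ => by ring
  rw [Finset.sum_congr rfl fun χ _ => hexp χ, ← Finset.mul_sum, Finset.sum_comm]
  have houter : ∀ x : (P : Subgroup G),
      ∑ χ ∈ K, f ψ x * ∑ x' : (P : Subgroup G), conj (f φ x') * ((χ : G → ℂ) x * conj ((χ : G → ℂ) x')) =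
        n * (f ψ x * conj (f φ x) + f ψ x * conj (f φ⁻¹ x)) := fun x => by
    by_cases hx : x = 1
    · subst hx
      simp [hf1]
    · rw [← Finset.mul_sum, Finset.sum_comm]
      simp only [← Finset.mul_sum]
      rw [hrow x hx]
      simp only [f, MonoidHom.inv_apply, map_inv]
      ring
  rw [Finset.sum_congr rfl fun x _ => houter x, ← Finset.mul_sum, mul_assoc, ← mul_assoc n⁻¹ n,
    inv_mul_cancel₀ hn0, one_mul, Finset.sum_add_distrib, mul_add,
    key φ hφ, key φ⁻¹ (fun e => hφ (MonoidHom.ext fun x => inv_eq_one.mp (DFunLike.congr_fun e x)))]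
  ring

/-- The weighted sums of the coefficients vanish. -/
theorem coef_regular {ψ : Lin S} {r : G} (hr : ¬ p ∣ orderOf r) :
    ∑ᶠ χ ∈ principalBlock M G, (χ : G → ℂ) r * coef S (χ : G → ℂ) ψ = 0 := by
  classical
  rw [finsum_mem_eq_finite_toFinset_sum _ (Set.toFinite _)]
  simp only [coef, Finset.mul_sum]
  rw [Finset.sum_comm]
  refine Finset.sum_eq_zero fun x _ => ?_
  by_cases hx : x = 1
  · subst hx; simp
  · have h := sum_regular S hM hx hr
    rw [finsum_mem_eq_finite_toFinset_sum _ (Set.toFinite _)] at h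
    calc _ = (Nat.card (P : Subgroup G) : ℂ)⁻¹ * (conj (ψ x : ℂ) - 1) *
          ∑ χ ∈ (Set.toFinite (principalBlock M G)).toFinset, (χ : G → ℂ) r * (χ : G → ℂ) x := by
          rw [Finset.mul_sum]
          exact Finset.sum_congr rfl fun χ _ => by ring
      _ = 0 := by rw [h, mul_zero]

end Coef

omit [Fintype G] in
theorem lin_inv_ne {ψ : Lin S} (hψ : ψ ≠ 1) : ψ⁻¹ ≠ ψ := fun e => hψ (MonoidHom.ext fun x => by
  have h : ψ x * ψ x = 1 := by
    have := DFunLike.congr_fun e x
    rw [MonoidHom.inv_apply] at this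
    conv_lhs => arg 1; rw [← this]
    exact inv_mul_cancel _
  obtain ⟨k, hk⟩ := IsPGroup.iff_orderOf.mp P.2 x
  have hodd : Odd (orderOf x) := by
    rw [hk]
    exact ((Fact.out : p.Prime).odd_of_ne_two S.odd).pow
  obtain ⟨m, hm⟩ := hodd
  have h2 : ψ x ^ orderOf x = 1 := by rw [← map_pow, pow_orderOf_eq_one, map_one]
  rw [hm, pow_succ, pow_mul, pow_two, h, one_pow, one_mul] at h2
  exact h2)

omit [Fintype G] [Fact p.Prime] in
theorem lin_inv_ne_one {ψ : Lin S} (hψ : ψ ≠ 1) : ψ⁻¹ ≠ 1 := fun e =>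
  hψ (MonoidHom.ext fun x => inv_eq_one.mp (DFunLike.congr_fun e x))

/-- What is used of the principal block. -/
structure Data (_ : Setting p P) (M : Ideal AlgInt) where
  /-- The nonexceptional character. -/
  Λ : IrrCharacter G
  /-- Its sign. -/
  δ : ℤ
  hδ : δ = 1 ∨ δ = -1
  Λ_ne : Λ ≠ Char.trivChar G
  mem : Λ ∈ principalBlock M G
  singular : ∀ z : G, p ∣ orderOf z → (δ : ℂ) * (Λ : G → ℂ) z = 1
  regular : ∀ χ ∈ principalBlock M G, χ = Char.trivChar G ∨ χ = Λ ∨
    ∃ ε : ℤ, ∀ r : G, ¬ p ∣ orderOf r → (χ : G → ℂ) r = ε * (1 + δ * (Λ : G → ℂ) r)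
  congr : (Nat.card (P : Subgroup G) : ℤ) ∣ δ * (charDegree (Λ : G → ℂ) : ℤ) - 1

variable {M : Ideal AlgInt} [M.IsPrime] (hM : IsPModular p M)
include hM

theorem exists_data : Nonempty (Data S M) := by
  classical
  have := Fintype.ofFinite (P : Subgroup G)
  have := finite_lin S
  have := Fintype.ofFinite (Lin S)
  have := Fintype.ofFinite (IrrCharacter G)
  have hlin : Fintype.card (Lin S) = Nat.card (P : Subgroup G) := by
    have h := sum_apply_lin S 1
    simp only [map_one, Units.val_one, Finset.sum_const, Finset.card_univ, nsmul_eq_mul, mul_one,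
      if_true] at h
    exact_mod_cast h
  have h9 := nine_le S
  let J := {ψ : Lin S // ψ ≠ 1}
  have hJ : 8 ≤ Fintype.card J := by
    rw [Fintype.card_subtype_compl, Fintype.card_subtype_eq]
    omega
  have : Nonempty J := Fintype.card_pos_iff.mp (by omega)
  -- the rows
  let ι := {χ : IrrCharacter G // χ ∈ principalBlock M G ∧ χ ≠ Char.trivChar G}
  have := Fintype.ofFinite ι
  choose c hc using fun (χ : IrrCharacter G) (ψ : Lin S) => coef_int S χ ψ
  have hsplit : ∀ F : IrrCharacter G → ℂ, ∑ᶠ χ ∈ principalBlock M G, F χ =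
      F (Char.trivChar G) + ∑ i : ι, F i.1 := fun F => by
    rw [finsum_mem_eq_finite_toFinset_sum _ (Set.toFinite _),
      ← Finset.add_sum_erase _ F ((Set.Finite.mem_toFinset _).mpr trivChar_mem_principalBlock)]
    congr 1
    refine Finset.sum_subtype _ (fun χ => ?_) F
    simp [and_comm]
  let v : J → ι → ℤ := fun j i => c i.1 j.1
  have hg : ∀ j k : J, ∑ i, v j i * v k i =
      1 + ((if j.1 = k.1 then 1 else 0) + (if j.1 = k.1⁻¹ then 1 else 0)) := by
    intro j k
    have h := coef_gram S hM j.2 k.2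
    rw [hsplit, coef_triv S j.2, coef_triv S k.2] at h
    simp only [hc, map_intCast, map_neg, map_one] at h
    refine Int.cast_injective (α := ℂ) ?_
    push_cast
    linear_combination h
  have hfib : ∀ j k : J, v j = v k → j.1 = k.1 ∨ j.1 = k.1⁻¹ := fun j k e => by
    by_contra hcon
    simp only [not_or] at hcon
    have h1 := hg j k
    rw [e, hg k k, if_neg hcon.1, if_neg hcon.2, if_pos rfl,
      if_neg (Ne.symm (lin_inv_ne S k.2))] at h1
    omega
  have heq : ∀ j k : J, j.1 = k.1 ∨ j.1 = k.1⁻¹ → v j = v k := fun j k e => funext fun i => by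
    rcases e with e | e
    · simp only [v, e]
    · refine Int.cast_injective (α := ℂ) ?_
      simp only [v, ← hc, e, coef_inv]
  obtain ⟨a, sa, hsa, hstar⟩ := star v
    (fun j => by rw [hg, if_pos rfl, if_neg (Ne.symm (lin_inv_ne S j.2))]; norm_num)
    (fun j k h => by
      have h' := mt (heq j k) h
      rw [not_or] at h'
      rw [hg, if_neg h'.1, if_neg h'.2]
      norm_num)
    (fun a b d => by
      by_contra hcon
      push Not at hcon
      let inv' : J → J := fun j => ⟨j.1⁻¹, lin_inv_ne_one S j.2⟩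
      have hsub : (Finset.univ : Finset J) ⊆ {a, inv' a, b, inv' b, d, inv' d} := by
        intro l _
        have hl : v l = v a ∨ v l = v b ∨ v l = v d := by
          by_cases h1 : v l = v a
          · exact Or.inl h1
          by_cases h2 : v l = v b
          · exact Or.inr (Or.inl h2)
          exact Or.inr (Or.inr (hcon l h1 h2))
        have key : ∀ b : J, v l = v b → l = b ∨ l = inv' b := fun b h =>
          (hfib _ _ h).imp (fun e => Subtype.ext e) fun e => Subtype.ext e
        simp only [Finset.mem_insert, Finset.mem_singleton]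
        rcases hl with h | h | h <;> rcases key _ h with e | e <;> tauto
      have := (Finset.card_le_card hsub).trans (Finset.card_le_six)
      rw [Finset.card_univ] at this
      omega)
  choose e s hea hs hv using hstar
  have hval : ∀ (χ : IrrCharacter G) (x : (P : Subgroup G)), x ≠ 1 → (χ : G → ℂ) x =
      ∑ j : J, (c χ j.1 : ℂ) * (j.1 x : ℂ) := fun χ x hx => by
    rw [apply_eq_sum_coef S (χ : G → ℂ) hx, ← Finset.add_sum_erase _ _ (Finset.mem_univ (1 : Lin S)),
      show coef S (χ : G → ℂ) 1 = 0 by simp [coef], zero_mul, zero_add]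
    rw [Finset.sum_subtype (Finset.univ.erase (1 : Lin S)) (p := fun ψ => ψ ≠ 1) (fun ψ => by simp)]
    exact Finset.sum_congr rfl fun ψ _ => by rw [hc]
  have hnontriv : ∀ x : (P : Subgroup G), x ≠ 1 → ∑ j : J, (j.1 x : ℂ) = -1 := fun x hx => by
    have h := sum_apply_lin S x
    rw [if_neg hx, ← Finset.add_sum_erase _ _ (Finset.mem_univ (1 : Lin S)),
      Finset.sum_subtype (Finset.univ.erase (1 : Lin S)) (p := fun ψ => ψ ≠ 1) (fun ψ => by simp),
      MonoidHom.one_apply, Units.val_one] at h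
    linear_combination h
  have hPval : ∀ x : (P : Subgroup G), x ≠ 1 → ((-sa : ℤ) : ℂ) * (a.1 : G → ℂ) x = 1 := fun x hx => by
    rw [hval a.1 x hx, Finset.sum_congr rfl fun j _ => show (c a.1 j.1 : ℂ) * (j.1 x : ℂ) =
      (sa : ℂ) * (j.1 x : ℂ) by rw [show c a.1 j.1 = v j a from rfl, hv j a, if_pos rfl],
      ← Finset.mul_sum, hnontriv x hx]
    rcases hsa with rfl | rfl <;> norm_num
  have hreg : ∀ (j : J) (r : G), ¬ p ∣ orderOf r →
      ((e j).1 : G → ℂ) r = (s j : ℂ) * (1 + ((-sa : ℤ) : ℂ) * (a.1 : G → ℂ) r) := fun j r hr => by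
    have h := coef_regular S hM (ψ := j.1) hr
    rw [hsplit, coef_triv S j.2, trivChar_apply, one_mul] at h
    rw [Finset.sum_eq_add a (e j) (Ne.symm (hea j))
      (fun i _ hi => by rw [hc, show c i.1 j.1 = v j i from rfl, hv j i, if_neg hi.1, if_neg hi.2,
        Int.cast_zero, mul_zero]) (by simp) (by simp), hc, hc,
      show c a.1 j.1 = v j a from rfl, show c (e j).1 j.1 = v j (e j) from rfl, hv j a, hv j (e j),
      if_pos rfl, if_neg (hea j), if_pos rfl] at h
    rcases hs j with hs' | hs'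
    · rw [hs'] at h ⊢; push_cast at h ⊢; linear_combination h
    · rw [hs'] at h ⊢; push_cast at h ⊢; linear_combination -h
  obtain ⟨x₀, hx₀⟩ : ∃ x : (P : Subgroup G), x ≠ 1 := by
    have : Nontrivial (P : Subgroup G) := Finite.one_lt_card_iff_nontrivial.mp (by omega)
    exact exists_ne 1
  refine ⟨{ Λ := a.1, δ := -sa, hδ := by omega, Λ_ne := a.2.2, mem := a.2.1
            singular := fun z hz => ?_, regular := fun χ hχ => ?_, congr := ?_ }⟩
  · obtain ⟨u, hu⟩ := exists_pPart hM.1 z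
    have hu1 : u ≠ 1 := (IsPPart.dvd_orderOf_iff hM.1 hu).mp hz
    obtain ⟨w, hzw, hcw, ⟨k, hk⟩, hw⟩ := hu
    obtain ⟨Q, hQ⟩ := (IsPGroup.of_card (n := k) (by rw [Nat.card_zpowers, hk]) :
      IsPGroup p (Subgroup.zpowers u)).exists_le_sylow
    obtain ⟨h, hh⟩ := MulAction.exists_smul_eq G Q P
    have huP : h * u * h⁻¹ ∈ (P : Subgroup G) := by
      rw [← hh]
      exact ⟨u, hQ (Subgroup.mem_zpowers u), rfl⟩
    have hpp : IsPPart p (h * z * h⁻¹) (h * u * h⁻¹) := by
      refine ⟨h * w * h⁻¹, ?_, ?_, ⟨k, ?_⟩, ?_⟩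
      · rw [← hzw]; group
      · exact (Commute.map hcw (MulAut.conj h).toMonoidHom)
      · rw [← hk, ← MulAut.conj_apply, MulEquiv.orderOf_eq]
      · rwa [← MulAut.conj_apply, MulEquiv.orderOf_eq]
    have hne : h * u * h⁻¹ ≠ 1 := fun e' => hu1 (conj_eq_one_iff.mp e')
    rw [← IsIrr.isClassFunction a.1.2 z h, apply_eq_pPart S hM a.2.1 hpp huP hne]
    exact hPval ⟨_, huP⟩ fun e' => hne (congrArg Subtype.val e')
  · by_cases h1 : χ = Char.trivChar G
    · exact Or.inl h1
    let i : ι := ⟨χ, hχ, h1⟩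
    by_cases ha : i = a
    · exact Or.inr (Or.inl (congrArg Subtype.val ha))
    by_cases he : ∃ j, i = e j
    · obtain ⟨j, hj⟩ := he
      refine Or.inr (Or.inr ⟨s j, fun r hr => ?_⟩)
      rw [show χ = (e j).1 from congrArg Subtype.val hj]
      exact hreg j r hr
    exfalso
    push Not at he
    have hz : (χ : G → ℂ) x₀ = 0 := by
      rw [hval χ x₀ hx₀]
      refine Finset.sum_eq_zero fun j _ => ?_
      rw [show c χ j.1 = v j i from rfl, hv j i, if_neg ha, if_neg (he j), Int.cast_zero, zero_mul]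
    have hsb : SameBlock M (fun _ : G => (1 : ℂ)) (χ : G → ℂ) := hχ
    have h3 := hsb (x₀ : G)
    rw [centralChar, centralChar, hz, mul_zero, zero_div, sub_zero, mul_one, div_one] at h3
    exact P.not_dvd_index (((memLocalIdeal_natCast_iff hM).mp h3).trans
      (Subgroup.index_dvd_of_le (le_centralizer S x₀.2)))
  · obtain ⟨m, hm⟩ := IsChar.classInner_eq_natCast
      (IsChar.restrict (P : Subgroup G) (IsIrr.isCharacter a.1.2)) isCharacter_one
    have hsum : ∑ x : (P : Subgroup G), (a.1 : G → ℂ) x =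
        (m : ℂ) * Nat.card (P : Subgroup G) := by
      rw [← hm, classInner]
      simp only [map_one, mul_one]
      have h0 : (Nat.card (P : Subgroup G) : ℂ) ≠ 0 := Nat.cast_ne_zero.2 Nat.card_pos.ne'
      field_simp
    have h1 : ((-sa : ℤ) : ℂ) * (∑ x : (P : Subgroup G), (a.1 : G → ℂ) x) =
        ((-sa : ℤ) : ℂ) * (charDegree (a.1 : G → ℂ) : ℂ) + ((Nat.card (P : Subgroup G) : ℂ) - 1) := by
      rw [Finset.mul_sum, ← Finset.add_sum_erase _ _ (Finset.mem_univ (1 : (P : Subgroup G))),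
        Finset.sum_congr rfl fun x hx => hPval x (Finset.ne_of_mem_erase hx), Finset.sum_const,
        Finset.card_erase_of_mem (Finset.mem_univ _), Finset.card_univ, nsmul_one,
        Nat.cast_sub (by rw [← Nat.card_eq_fintype_card]; omega), Nat.cast_one,
        ← Nat.card_eq_fintype_card, OneMemClass.coe_one, apply_one_eq_charDegree]
    rw [hsum] at h1
    refine ⟨-sa * m - 1, Int.cast_injective (α := ℂ) ?_⟩
    push_cast
    push_cast at h1
    linear_combination -h1

end CfsgLib.InertialTwo
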