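import Cfsg.Agent.Lib.InertialTwo.Principal
import Cfsg.Agent.Lib.Char.Brauer
import Cfsg.Agent.Lib.Char.Complete
import Cfsg.Agent.Lib.Char.DegreeCenter
import Cfsg.Agent.Lib.Blocks.Orthogonality
import Cfsg.Agent.Lib.Blocks.RegularValues
import Cfsg.Agent.Lib.Blocks.QuotientBlocks

/-!
# Involutions in the kernel of `Λ`

A faithful linear character `lam` of the kernel of the covering group twists `1 - δ Λ` into a
generalized character of norm two, so `± χ₁ ± χ₂`.  Counting pairs of involutions in both groups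
gives `1 / χ₁(1) + 1 / χ₂(1) = 1 - 1 / δΛ(1)` up to signs unless `Λ(t) = Λ(1)`, and the degrees
`χᵢ(1)` are multiples of `p`.
-/

set_option autoImplicit false

namespace CfsgLib.InertialTwo

open Cfsg CfsgLib.Char CfsgLib.Blocks
open scoped ComplexConjugate

universe u

/-- The `p'`-part is a homomorphism on a nilpotent group. -/
theorem exists_regularPart {p : ℕ} [Fact p.Prime] (E : Type*) [Group E] [Finite E]
    [Group.IsNilpotent E] : ∃ i : E →* E,
      ∀ g, ∃ u, u * i g = g ∧ Commute u (i g) ∧ (∃ k, orderOf u = p ^ k) ∧ ¬ p ∣ orderOf (i g) := by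
  classical
  set n := Nat.card E
  set q := p ^ n.factorization p
  set m := n / q
  have hqm : q * m = n := Nat.ordProj_mul_ordCompl_eq_self n p
  have hm : ¬ p ∣ m := Nat.not_dvd_ordCompl Fact.out Nat.card_pos.ne'
  have hco : Nat.Coprime q m := (((Fact.out : p.Prime).coprime_iff_not_dvd).mpr hm).pow_left _
  obtain ⟨k, hk1, hk2⟩ := Nat.chineseRemainder hco 0 1
  have hnorm : ∀ {r : ℕ} [Fact r.Prime] (P : Sylow r E), (P : Subgroup E).Normal := fun {r} hr P =>
    ((Group.isNilpotent_of_finite_tfae (G := E)).out 0 3 rfl rfl).mp inferInstance r hr P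
  let e := Sylow.directProductOfNormal (G := E) hnorm
  have hmul : ∀ g h : E, (g * h) ^ k = g ^ k * h ^ k := by
    intro g h
    refine e.symm.injective ?_
    simp only [map_mul, map_pow]
    funext r P
    simp only [Pi.pow_apply, Pi.mul_apply]
    set a := e.symm g r P
    set b := e.symm h r P
    have hr : (r : ℕ).Prime := Nat.prime_of_mem_primeFactors r.2
    haveI := Fact.mk hr
    have hcard : Nat.card (P : Subgroup E) = (r : ℕ) ^ n.factorization r := P.card_eq_multiplicity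
    by_cases hrp : (r : ℕ) = p
    · have h1 : ∀ x : (P : Subgroup E), x ^ k = 1 := fun x => by
        refine orderOf_dvd_iff_pow_eq_one.mp (dvd_trans ?_ (Nat.modEq_zero_iff_dvd.mp hk1))
        refine (orderOf_dvd_natCard x).trans (dvd_of_eq ?_)
        rw [hcard, hrp]
      rw [h1, h1, h1, one_mul]
    · have h1 : ∀ x : (P : Subgroup E), x ^ k = x := fun x => by
        conv_rhs => rw [← pow_one x]
        refine pow_eq_pow_iff_modEq.mpr (hk2.of_dvd ?_)
        refine (orderOf_dvd_natCard x).trans ?_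
        rw [hcard]
        refine Nat.Coprime.dvd_of_dvd_mul_left (m := q) ?_ ?_
        · exact (((Nat.coprime_primes hr Fact.out).mpr hrp).pow _ _)
        · rw [hqm]
          exact Nat.ordProj_dvd n r
      rw [h1, h1, h1]
  refine ⟨{ toFun := fun g => g ^ k, map_one' := one_pow k, map_mul' := hmul }, fun g =>
    ⟨g * (g ^ k)⁻¹, by simp, ?_, ?_, ?_⟩⟩
  · show Commute (g * (g ^ k)⁻¹) (g ^ k)
    exact ((Commute.refl g).pow_right k).mul_left ((Commute.refl (g ^ k)).inv_left)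
  · have h1 : (g * (g ^ k)⁻¹) ^ q = 1 := by
      rw [(((Commute.refl g).pow_right k).inv_right).mul_pow, inv_pow, ← pow_mul, mul_inv_eq_one]
      refine pow_eq_pow_iff_modEq.mpr (Nat.ModEq.of_dvd (orderOf_dvd_natCard g) ?_)
      rw [show Nat.card E = q * m from hqm.symm, mul_comm k q]
      simpa using (hk2.symm.mul_left' q)
    obtain ⟨l, -, hl⟩ := (Nat.dvd_prime_pow Fact.out).mp (orderOf_dvd_of_pow_eq_one h1)
    exact ⟨l, hl⟩
  · show ¬ p ∣ orderOf (g ^ k)
    intro hd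
    refine hm (hd.trans (orderOf_dvd_of_pow_eq_one ?_))
    rw [← pow_mul]
    refine orderOf_dvd_iff_pow_eq_one.mp ((orderOf_dvd_natCard g).trans ?_)
    rw [show Nat.card E = q * m from hqm.symm]
    exact Nat.mul_dvd_mul_right (Nat.modEq_zero_iff_dvd.mp hk1) m

section PPart

variable {G : Type*} [Group G] {p : ℕ}

theorem pPart_unique (hp : p.Prime) {g u v : G} (hu : IsPPart p g u) (hv : IsPPart p g v) :
    u = v := by
  have h := conj_pPart_eq (x := (1 : G)) hp hu hv (j := 1)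
    (fun h => hp.one_lt.ne' (Nat.dvd_one.mp h)) (by simp)
  simpa using h

theorem IsPPart.conj {g u : G} (x : G) (h : IsPPart p g u) :
    IsPPart p (x * g * x⁻¹) (x * u * x⁻¹) := by
  obtain ⟨w, hw, hc, ⟨k, hk⟩, hn⟩ := h
  refine ⟨x * w * x⁻¹, by rw [← hw]; group, hc.map (MulAut.conj x).toMonoidHom, ⟨k, ?_⟩, ?_⟩
  · rw [← hk, ← MulAut.conj_apply, MulEquiv.orderOf_eq]
  · rwa [← MulAut.conj_apply, MulEquiv.orderOf_eq]

theorem IsPPart.inv {g u : G} (h : IsPPart p g u) : IsPPart p g⁻¹ u⁻¹ := by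
  obtain ⟨w, hw, hc, ⟨k, hk⟩, hn⟩ := h
  refine ⟨w⁻¹, ?_, hc.inv_inv, ⟨k, by rw [orderOf_inv, hk]⟩, by rwa [orderOf_inv]⟩
  rw [← hw, hc.eq, mul_inv_rev]

end PPart

/-- Averaging a conjugacy class in an irreducible representation. -/
theorem sum_conj_mul {G : Type*} [Group G] [Fintype G] (χ : IrrCharacter G) (t x : G) :
    ∑ g : G, (χ : G → ℂ) (g * t * g⁻¹ * x) =
      (Fintype.card G : ℂ) * (χ : G → ℂ) t * (χ : G → ℂ) x / (χ : G → ℂ) 1 := by
  obtain ⟨n, ρ, hirr, hc⟩ := χ.2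
  have := hirr
  have hcomm : ∀ h, (∑ g : G, ρ (g * t * g⁻¹)) * ρ h = ρ h * ∑ g : G, ρ (g * t * g⁻¹) := fun h => by
    rw [Finset.sum_mul, Finset.mul_sum]
    refine Fintype.sum_equiv (Equiv.mulLeft h⁻¹) _ _ fun g => ?_
    simp only [Equiv.coe_mulLeft, ← map_mul]
    congr 1
    group
  obtain ⟨c, hc'⟩ := CharIntegral.exists_scalar_of_commute ρ _ hcomm
  have htr := congrArg (LinearMap.trace ℂ (Fin n → ℂ)) hc'
  rw [map_sum, map_smul, LinearMap.trace_id, smul_eq_mul] at htr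
  have h1 : ∑ g : G, LinearMap.trace ℂ (Fin n → ℂ) (ρ (g * t * g⁻¹)) =
      (Fintype.card G : ℂ) * (χ : G → ℂ) t := by
    rw [Finset.sum_congr rfl (g := fun _ => (χ : G → ℂ) t) (fun g _ => by
      rw [← hc]; exact ρ.char_conj t g), Finset.sum_const, Finset.card_univ, nsmul_eq_mul]
  rw [h1] at htr
  have hn : (χ : G → ℂ) 1 = (Module.finrank ℂ (Fin n → ℂ) : ℂ) := by rw [← hc, Representation.char_one]
  have hn0 : (χ : G → ℂ) 1 ≠ 0 := IsIrr.apply_one_ne_zero χ.2
  have h2 : ∀ g : G, (χ : G → ℂ) (g * t * g⁻¹ * x) =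
      LinearMap.trace ℂ (Fin n → ℂ) (ρ (g * t * g⁻¹) * ρ x) := fun g => by
    rw [← map_mul, ← hc]; rfl
  rw [Finset.sum_congr rfl fun g _ => h2 g, ← map_sum, ← Finset.sum_mul, hc', smul_mul_assoc,
    map_smul, smul_eq_mul, show LinearMap.id * ρ x = ρ x from one_mul _, eq_div_iff hn0, htr, hn,
    show LinearMap.trace ℂ (Fin n → ℂ) (ρ x) = (χ : G → ℂ) x by rw [← hc]; rfl]
  ring

theorem sum_conj_mul_conj {G : Type*} [Group G] [Fintype G] (χ : IrrCharacter G) (t : G) :
    ∑ g : G, ∑ h : G, (χ : G → ℂ) (g * t * g⁻¹ * (h * t * h⁻¹)) =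
      (Fintype.card G : ℂ) ^ 2 * (χ : G → ℂ) t ^ 2 / (χ : G → ℂ) 1 := by
  rw [Finset.sum_comm, Finset.sum_congr rfl fun h _ => sum_conj_mul χ t (h * t * h⁻¹),
    Finset.sum_congr rfl (g := fun _ => (Fintype.card G : ℂ) * (χ : G → ℂ) t * (χ : G → ℂ) t /
      (χ : G → ℂ) 1) (fun h _ => by rw [IsIrr.isClassFunction χ.2 t h]),
    Finset.sum_const, Finset.card_univ, nsmul_eq_mul]
  ring

/-- Central elements act by scalars on irreducible characters. -/
theorem exists_central_scalar {G : Type*} [Group G] [Finite G] (χ : IrrCharacter G) {z : G}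
    (hz : z ∈ Subgroup.center G) : ∃ c : ℂ, ∀ g, (χ : G → ℂ) (z * g) = c * (χ : G → ℂ) g := by
  obtain ⟨n, ρ, hirr, hc⟩ := χ.2
  have := hirr
  obtain ⟨c, hρ⟩ := CharIntegral.exists_scalar_of_mem_center ρ hz
  exact ⟨c, fun g => by rw [← hc]; exact CharIntegral.character_smul_of_scalar ρ hρ g⟩

/-- The Gram calculation in the last step. -/
theorem final_arith {p : ℕ} (hp : 3 ≤ p) {D : ℤ} (hD : (9 : ℤ) ≤ |D - 1|) {s₁ s₂ : ℤ}
    (h₁ : s₁ = 1 ∨ s₁ = -1) (h₂ : s₂ = 1 ∨ s₂ = -1) {m₁ m₂ : ℕ} (hm₁ : 0 < m₁) (hm₂ : 0 < m₂)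
    (h : D * (s₁ * m₂ + s₂ * m₁) = (D - 1) * p * m₁ * m₂) : False := by
  set X : ℤ := s₁ * m₂ + s₂ * m₁
  have hm : (1 : ℤ) ≤ (m₁ : ℤ) * m₂ := by exact_mod_cast Nat.mul_pos hm₁ hm₂
  have hX : |X| ≤ 2 * ((m₁ : ℤ) * m₂) := by
    have e1 : (1 : ℤ) ≤ m₁ := by exact_mod_cast hm₁
    have e2 : (1 : ℤ) ≤ m₂ := by exact_mod_cast hm₂
    rw [abs_le]
    rcases h₁ with h₁ | h₁ <;> rcases h₂ with h₂ | h₂ <;> simp only [X, h₁, h₂] <;>
      constructor <;> nlinarith
  have habs := congrArg abs h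
  rw [abs_mul, abs_mul, abs_mul, abs_mul, Nat.abs_cast, Nat.abs_cast, Nat.abs_cast] at habs
  have h3 : |D - 1| * 3 * ((m₁ : ℤ) * m₂) ≤ |D| * (2 * ((m₁ : ℤ) * m₂)) := by
    calc |D - 1| * 3 * ((m₁ : ℤ) * m₂) ≤ |D - 1| * p * ((m₁ : ℤ) * m₂) := by
          have hp' : (3 : ℤ) ≤ p := by exact_mod_cast hp
          gcongr
      _ = |D| * |X| := by rw [habs]; ring
      _ ≤ _ := mul_le_mul_of_nonneg_left hX (abs_nonneg D)
  have h4 : |D - 1| * 3 ≤ |D| * 2 := le_of_mul_le_mul_right (by linarith) (by linarith : (0 : ℤ) < (m₁ : ℤ) * m₂)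
  have h5 : |D| ≤ |D - 1| + 1 := by
    have := abs_add_le (D - 1) 1
    simpa using this
  omega

section Twist

variable {G : Type u} [Group G] [Fintype G] {p : ℕ} [Fact p.Prime]
  {E : Type u} [Group E] [Fintype E] (π : E →* G) (hπ : Function.Surjective π)
  (hcard : Nat.card π.ker = p) (hcen : π.ker ≤ Subgroup.center E) (lam : π.ker →* ℂˣ)

include hcard in
theorem pow_p_of_mem_ker {z : E} (hz : z ∈ π.ker) : z ^ p = 1 := by
  have h := pow_card_eq_one' (G := π.ker) (x := ⟨z, hz⟩)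
  rw [hcard] at h
  exact congrArg Subtype.val h

include hcard in
theorem exists_orderOf_ker {z : E} (hz : z ∈ π.ker) : ∃ k, orderOf z = p ^ k := by
  obtain ⟨k, -, hk⟩ := (Nat.dvd_prime_pow Fact.out).mp
    (orderOf_dvd_of_pow_eq_one (show z ^ p ^ 1 = 1 by rw [pow_one]; exact pow_p_of_mem_ker π hcard hz))
  exact ⟨k, hk⟩

include hcard in
/-- Over a regular element the `p`-part lies in the kernel. -/
theorem pPart_mem_ker {g u : E} (hg : ¬ p ∣ orderOf (π g)) (hu : IsPPart p g u) : u ∈ π.ker := by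
  obtain ⟨w, hw, hc, ⟨k, hk⟩, hn⟩ := hu
  have hp' : IsPPart p (π g) (π u) := by
    refine ⟨π w, by rw [← map_mul, hw], hc.map π, ?_, fun hd => hn (hd.trans (orderOf_map_dvd π w))⟩
    obtain ⟨l, -, hl⟩ := (Nat.dvd_prime_pow Fact.out).mp (hk ▸ orderOf_map_dvd π u)
    exact ⟨l, hl⟩
  exact MonoidHom.mem_ker.mpr (pPart_unique Fact.out hp' (isPPart_one_of_isPRegular hg))

include hπ hcard hcen in
/-- The regular lift. -/
theorem exists_lift {y : G} (hy : ¬ p ∣ orderOf y) :
    ∃ v : E, π v = y ∧ ¬ p ∣ orderOf v ∧ ∀ v', π v' = y → ¬ p ∣ orderOf v' → v' = v := by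
  obtain ⟨g, rfl⟩ := hπ y
  obtain ⟨u, hu⟩ := exists_pPart (G := E) (p := p) Fact.out g
  have huk := pPart_mem_ker π hcard hy hu
  obtain ⟨w, hw, -, -, hn⟩ := hu
  refine ⟨w, by rw [← hw, map_mul, MonoidHom.mem_ker.mp huk, one_mul], hn, fun v hv hvn => ?_⟩
  have hz : v * w⁻¹ ∈ π.ker := by
    rw [MonoidHom.mem_ker, map_mul, hv, map_inv, mul_inv_eq_one, ← hw, map_mul,
      MonoidHom.mem_ker.mp huk, one_mul]
  have hc : Commute (v * w⁻¹) w := (Subgroup.mem_center_iff.mp (hcen hz) w).symm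
  have e1 : IsPPart p v (v * w⁻¹) :=
    ⟨w, by group, hc, exists_orderOf_ker π hcard hz, hn⟩
  exact mul_inv_eq_one.mp (pPart_unique Fact.out e1 (isPPart_one_of_isPRegular hvn))

open scoped Classical in
/-- The character of the `p`-part over regular elements, zero over singular ones. -/
noncomputable def tw (g : E) : ℂ :=
  if h : ¬ p ∣ orderOf (π g) ∧ (Classical.epsilon fun u => IsPPart p g u) ∈ π.ker then
    (lam ⟨_, h.2⟩ : ℂ)
  else 0

include hcard in
theorem tw_eq {g u : E} (hg : ¬ p ∣ orderOf (π g)) (hu : IsPPart p g u) :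
    tw π lam (p := p) g = (lam ⟨u, pPart_mem_ker π hcard hg hu⟩ : ℂ) := by
  have he : (Classical.epsilon fun v => IsPPart p g v) = u :=
    pPart_unique Fact.out (Classical.epsilon_spec (p := fun v => IsPPart p g v) ⟨u, hu⟩) hu
  rw [tw, dif_pos ⟨hg, he ▸ pPart_mem_ker π hcard hg hu⟩]
  simp only [he]

theorem tw_singular {g : E} (hg : p ∣ orderOf (π g)) : tw π lam (p := p) g = 0 :=
  dif_neg fun h => h.1 hg

include hcard in
theorem tw_of_regular {g : E} (hg : ¬ p ∣ orderOf g) : tw π lam (p := p) g = 1 := by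
  rw [tw_eq π hcard lam (fun h => hg (h.trans (orderOf_map_dvd π g))) (isPPart_one_of_isPRegular hg)]
  simp [show (⟨1, _⟩ : π.ker) = 1 from rfl]

include hcard hcen in
theorem tw_mul {z : E} (hz : z ∈ π.ker) (g : E) :
    tw π lam (p := p) (z * g) = (lam ⟨z, hz⟩ : ℂ) * tw π lam (p := p) g := by
  have he : π (z * g) = π g := by rw [map_mul, MonoidHom.mem_ker.mp hz, one_mul]
  by_cases hg : p ∣ orderOf (π g)
  · rw [tw_singular π lam hg, tw_singular π lam (he ▸ hg), mul_zero]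
  obtain ⟨u, hu⟩ := exists_pPart (G := E) (p := p) Fact.out g
  have huk := pPart_mem_ker π hcard hg hu
  obtain ⟨w, hw, hc, hk, hn⟩ := hu
  have hu' : IsPPart p (z * g) (z * u) :=
    ⟨w, by rw [mul_assoc, hw], (Subgroup.mem_center_iff.mp (hcen (mul_mem hz huk)) w).symm,
      exists_orderOf_ker π hcard (mul_mem hz huk), hn⟩
  rw [tw_eq π hcard lam hg ⟨w, hw, hc, hk, hn⟩, tw_eq π hcard lam (he ▸ hg) hu', ← Units.val_mul,
    ← map_mul]
  rfl

include hcard in
theorem tw_norm {g : E} (hg : ¬ p ∣ orderOf (π g)) :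
    tw π lam (p := p) g * conj (tw π lam (p := p) g) = 1 := by
  obtain ⟨u, hu⟩ := exists_pPart (G := E) (p := p) Fact.out g
  rw [tw_eq π hcard lam hg hu]
  set z : π.ker := ⟨u, pPart_mem_ker π hcard hg hu⟩
  rw [show conj ((lam z : ℂˣ) : ℂ) = ((lam z⁻¹ : ℂˣ) : ℂ) from
    (IsIrr.map_inv (isIrrCharacter_linear lam) z).symm, ← Units.val_mul, ← map_mul, mul_inv_cancel,
    map_one, Units.val_one]

include hcard hcen in
theorem tw_conj (g x : E) : tw π lam (p := p) (x * g * x⁻¹) = tw π lam (p := p) g := by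
  have he : orderOf (π (x * g * x⁻¹)) = orderOf (π g) := by
    rw [map_mul, map_mul, map_inv, ← MulAut.conj_apply, MulEquiv.orderOf_eq]
  by_cases hg : p ∣ orderOf (π g)
  · rw [tw_singular π lam hg, tw_singular π lam (he ▸ hg)]
  obtain ⟨u, hu⟩ := exists_pPart (G := E) (p := p) Fact.out g
  have huk := pPart_mem_ker π hcard hg hu
  rw [tw_eq π hcard lam hg hu, tw_eq π hcard lam (he ▸ hg) (IsPPart.conj x hu)]
  congr 2
  exact Subtype.ext (by
    show x * u * x⁻¹ = u
    rw [Subgroup.mem_center_iff.mp (hcen huk) x, mul_inv_cancel_right])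

/-- The twist of a class function supported on regular elements. -/
noncomputable def twist (ψ : G → ℂ) (g : E) : ℂ := tw π lam (p := p) g * ψ (π g)

include hcard hcen in
theorem isClassFunction_twist {ψ : G → ℂ} (hψ : IsClassFunction G ψ) :
    IsClassFunction E (twist π lam (p := p) ψ) := fun g x => by
  show tw π lam (x * g * x⁻¹) * ψ (π (x * g * x⁻¹)) = tw π lam g * ψ (π g)
  rw [tw_conj π hcard hcen lam, map_mul, map_mul, map_inv, hψ]

include hcard hcen in
/-- The twist of a generalized character vanishing on singular elements is one. -/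
theorem isGen_twist {ψ : G → ℂ} (hψ : IsGeneralizedCharacter G ψ)
    (hvan : ∀ y, p ∣ orderOf y → ψ y = 0) :
    IsGeneralizedCharacter E (twist π lam (p := p) ψ) := by
  classical
  refine CfsgLib.Brauer.isGeneralizedCharacter_of_elementary
    (isClassFunction_twist π hcard hcen lam (IsGen.isClassFunction hψ)) fun E₀ q hq hE₀ => ?_
  have := Fintype.ofFinite E₀
  have := CfsgLib.Brauer.isNilpotent_of_isElementary hq hE₀
  obtain ⟨i, hi⟩ := exists_regularPart (p := p) E₀
  let f : E₀ →* G := π.comp E₀.subtype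
  have hclass : IsClassFunction E₀ (fun e : E₀ => twist π lam (p := p) ψ e) := fun g x =>
    isClassFunction_twist π hcard hcen lam (IsGen.isClassFunction hψ) (g : E) (x : E)
  refine isGeneralizedCharacter_of_classInner hclass fun χ => ?_
  by_cases hall : ∀ z : E₀, ∀ hz : (z : E) ∈ π.ker, ∀ g : E₀,
      (χ : E₀ → ℂ) (z * g) = (lam ⟨_, hz⟩ : ℂ) * (χ : E₀ → ℂ) g
  · obtain ⟨m, hm⟩ := IsGen.exists_classInner_eq_intCast (IsGen.comp f hψ)
      (IsGen.of_isCharacter (IsChar.comp i (IsIrr.isCharacter χ.2)))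
    refine ⟨m, hm ▸ ?_⟩
    simp only [classInner]
    congr 1
    refine Finset.sum_congr rfl fun g _ => ?_
    show tw π lam (g : E) * ψ (π g) * conj ((χ : E₀ → ℂ) g) = ψ (π g) * conj ((χ : E₀ → ℂ) (i g))
    by_cases hg : p ∣ orderOf (π g)
    · rw [hvan _ hg]
      ring
    obtain ⟨u, hu, hc, ⟨k, hk⟩, hn⟩ := hi g
    have hu' : IsPPart p (g : E) (u : E) :=
      ⟨(i g : E), by rw [← Subgroup.coe_mul, hu], hc.map E₀.subtype,
        ⟨k, by rw [Subgroup.orderOf_coe, hk]⟩, by rwa [Subgroup.orderOf_coe]⟩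
    have huk := pPart_mem_ker π hcard hg hu'
    have hχ := hall u huk (i g)
    rw [hu] at hχ
    have h1 := tw_norm π hcard lam hg
    rw [tw_eq π hcard lam hg hu'] at h1 ⊢
    rw [hχ, map_mul]
    linear_combination (ψ (π g) * conj ((χ : E₀ → ℂ) (i g))) * h1
  · push Not at hall
    obtain ⟨z, hz, g₀, hne⟩ := hall
    have hzc : z ∈ Subgroup.center E₀ := Subgroup.mem_center_iff.mpr fun a =>
      Subtype.ext (Subgroup.mem_center_iff.mp (hcen hz) a)
    obtain ⟨c, hc⟩ := exists_central_scalar χ hzc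
    refine ⟨0, ?_⟩
    rw [Int.cast_zero]
    set I := Cfsg.classInner (fun e : E₀ => twist π lam (p := p) ψ e) (χ : E₀ → ℂ)
    have key : I = (lam ⟨_, hz⟩ : ℂ) * conj c * I := by
      have hre := Equiv.sum_comp (Equiv.mulLeft z)
        (fun e : E₀ => twist π lam (p := p) ψ e * conj ((χ : E₀ → ℂ) e))
      simp only [I, classInner]
      conv_lhs => rw [← hre]
      simp only [Finset.mul_sum]
      refine Finset.sum_congr rfl fun e _ => ?_
      simp only [Equiv.coe_mulLeft, twist, Subgroup.coe_mul, tw_mul π hcard hcen lam hz,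
        map_mul, MonoidHom.mem_ker.mp hz, one_mul, hc]
      ring
    by_contra hI
    refine hne ?_
    have h1 : (lam ⟨_, hz⟩ : ℂ) * conj c = 1 :=
      mul_right_cancel₀ hI (by rw [one_mul]; exact key.symm)
    rw [hc]
    congr 1
    set a := ((lam ⟨_, hz⟩ : ℂˣ) : ℂ)
    have h2 : a * conj a = 1 := by
      rw [show conj a = ((lam (⟨_, hz⟩ : π.ker)⁻¹ : ℂˣ) : ℂ) from
        (IsIrr.map_inv (isIrrCharacter_linear lam) _).symm, ← Units.val_mul, ← map_mul,
        mul_inv_cancel, map_one, Units.val_one]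
    have ha : a ≠ 0 := Units.ne_zero _
    exact (RingHom.injective (starRingEnd ℂ)) (mul_left_cancel₀ ha (h1.trans h2.symm))

include hπ hcard in
/-- Summation over the covering group. -/
theorem sum_comp (F : G → ℂ) : ∑ g : E, F (π g) = (p : ℂ) * ∑ y : G, F y := by
  classical
  rw [← Finset.sum_fiberwise Finset.univ π (fun g => F (π g)), Finset.mul_sum]
  refine Finset.sum_congr rfl fun y _ => ?_
  obtain ⟨g₀, rfl⟩ := hπ y
  rw [Finset.sum_congr rfl (g := fun _ => F (π g₀)) (fun g hg => by rw [(Finset.mem_filter.mp hg).2]),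
    Finset.sum_const, nsmul_eq_mul]
  congr 2
  rw [← hcard, ← Fintype.card_subtype, ← Nat.card_eq_fintype_card]
  exact Nat.card_congr
    { toFun := fun z => ⟨g₀⁻¹ * z.1, by
        rw [MonoidHom.mem_ker, map_mul, map_inv, z.2, inv_mul_cancel]⟩
      invFun := fun z => ⟨g₀ * z.1, by rw [map_mul, MonoidHom.mem_ker.mp z.2, mul_one]⟩
      left_inv := fun z => Subtype.ext (mul_inv_cancel_left _ _)
      right_inv := fun z => Subtype.ext (inv_mul_cancel_left _ _) }

include hπ hcard in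
theorem card_cover : (Nat.card E : ℂ) = (p : ℂ) * (Nat.card G : ℂ) := by
  have h := sum_comp π hπ hcard fun _ => (1 : ℂ)
  simpa [Nat.card_eq_fintype_card] using h

/-- Inflation along the covering map. -/
noncomputable def infl (ξ : IrrCharacter G) : IrrCharacter E :=
  ⟨fun g => (ξ : G → ℂ) (π g), IsIrr.comp_surjective π hπ ξ.2⟩

include hπ hcard hcen in
theorem index_centralizer_lift {v : E} (hv : ¬ p ∣ orderOf v) :
    (Subgroup.centralizer ({v} : Set E)).index =
      (Subgroup.centralizer ({π v} : Set G)).index := by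
  rw [← Subgroup.index_comap_of_surjective (Subgroup.centralizer ({π v} : Set G)) hπ]
  congr 1
  ext x
  rw [Subgroup.mem_comap, Subgroup.mem_centralizer_singleton_iff,
    Subgroup.mem_centralizer_singleton_iff, ← map_mul, ← map_mul]
  refine ⟨fun h => by rw [h], fun h => ?_⟩
  obtain ⟨w, -, -, hw⟩ := exists_lift π hπ hcard hcen (y := π v)
    (fun hd => hv (hd.trans (orderOf_map_dvd π v)))
  have h1 : π (x * v * x⁻¹) = π v := by
    rw [map_mul, h, map_inv, map_mul, mul_inv_cancel_right]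
  have h2 := (hw _ h1 (by rwa [← MulAut.conj_apply, MulEquiv.orderOf_eq])).trans (hw v rfl hv).symm
  exact mul_inv_eq_iff_eq_mul.mp h2

include hπ hcard hcen in
theorem sameBlock_infl_iff {M : Ideal AlgInt} [M.IsPrime] (hM : IsPModular p M)
    (ξ η : IrrCharacter G) :
    SameBlock M (infl π hπ ξ : E → ℂ) (infl π hπ η : E → ℂ) ↔
      SameBlock M (ξ : G → ℂ) (η : G → ℂ) := by
  have hcc : ∀ (θ : IrrCharacter G) (v : E), ¬ p ∣ orderOf v →
      centralCharBar M (infl π hπ θ) v = centralCharBar M θ (π v) := fun θ v hv => by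
    rw [centralCharBar, centralCharBar]
    congr 1
    refine Subtype.ext ?_
    show centralChar (infl π hπ θ : E → ℂ) v = centralChar (θ : G → ℂ) (π v)
    rw [centralChar, centralChar, index_centralizer_lift π hπ hcard hcen hv]
    show _ * (θ : G → ℂ) (π v) / (θ : G → ℂ) (π 1) = _
    rw [map_one]
  constructor
  · intro h
    refine sameBlock_of_regular hM fun y hy => ?_
    obtain ⟨v, rfl, hv, -⟩ := exists_lift π hπ hcard hcen hy
    rw [← hcc ξ v hv, ← hcc η v hv, sameBlock_iff.1 h]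
  · intro h
    refine sameBlock_of_regular hM fun v hv => ?_
    rw [hcc ξ v hv, hcc η v hv, sameBlock_iff.1 h]

end Twist

section Main

variable {G : Type u} [Group G] [Fintype G] {p : ℕ} [Fact p.Prime] {P : Sylow p G}

/-- An involution lies in the kernel of `Λ`, unless `δΛ(1) = 1`. -/
theorem apply_involution_eq (S : Setting p P) {M : Ideal AlgInt} [M.IsPrime] (hM : IsPModular p M)
    (D : Data S M) (hd : D.δ * (charDegree (D.Λ : G → ℂ) : ℤ) ≠ 1) {t : G} (ht : orderOf t = 2) :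
    (D.Λ : G → ℂ) t = (D.Λ : G → ℂ) 1 := by
  classical
  have := Fintype.ofFinite (IrrCharacter G)
  have hp : p.Prime := Fact.out
  obtain ⟨E, iG, iF, π, hπ, hcard, hcen, a, b, hab, hnc⟩ := exists_extension S
  have := Fintype.ofFinite E
  have := Fintype.ofFinite (IrrCharacter E)
  -- a faithful character of the kernel
  obtain ⟨lam, hlam⟩ : ∃ lam : π.ker →* ℂˣ, Function.Injective lam := by
    letI : CommGroup π.ker :=
      { (inferInstance : Group π.ker) with
        mul_comm := fun x y => Subtype.ext (Subgroup.mem_center_iff.mp (hcen y.2) x) }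
    have : Nontrivial π.ker := Finite.one_lt_card_iff_nontrivial.mp (hcard ▸ hp.one_lt)
    obtain ⟨z, hz⟩ := exists_ne (1 : π.ker)
    obtain ⟨φ, hφ⟩ := CommGroup.exists_apply_ne_one_of_hasEnoughRootsOfUnity π.ker ℂ hz
    refine ⟨φ, (MonoidHom.ker_eq_bot_iff φ).mp ?_⟩
    have : Fact (Nat.card π.ker).Prime := ⟨hcard.symm ▸ hp⟩
    refine φ.ker.eq_bot_or_eq_top_of_prime_card.resolve_right fun h => hφ ?_
    exact MonoidHom.mem_ker.mp (h ▸ Subgroup.mem_top z)
  set δ : ℂ := (D.δ : ℂ) with hδdef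
  have hδ2 : δ * δ = 1 := by rcases D.hδ with h | h <;> simp [δ, h]
  have hδc : conj δ = δ := by simp [δ]
  set L : G → ℂ := fun y => δ * (D.Λ : G → ℂ) y with hL
  let ψ : G → ℂ := fun y => 1 - L y
  have hvan : ∀ y, p ∣ orderOf y → ψ y = 0 := fun y hy => by
    simp only [ψ, L, δ, D.singular y hy, sub_self]
  have hψgen : IsGeneralizedCharacter G ψ :=
    IsGen.sub IsGen.one (IsGen.intCast_smul D.δ (IsGen.of_irr D.Λ.2))
  have hψclass := IsGen.isClassFunction hψgen
  have hψinner : ∀ ξ : IrrCharacter G, classInner (ξ : G → ℂ) ψ =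
      (if ξ = Char.trivChar G then 1 else 0) - δ * (if ξ = D.Λ then 1 else 0) := fun ξ => by
    rw [show ψ = (Char.trivChar G : G → ℂ) - δ • (D.Λ : G → ℂ) from rfl, classInner_sub_right,
      classInner_smul_right, classInner_irr, classInner_irr, hδc]
  set Ψ := twist π lam (p := p) ψ with hΨdef
  obtain ⟨c, hc⟩ := IsGen.exists_sum (isGen_twist π hcard hcen lam hψgen hvan)
  have hcoef : ∀ χ : IrrCharacter E, classInner Ψ (χ : E → ℂ) = (c χ : ℂ) := fun χ => by
    rw [hΨdef, hc]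
    simpa using classInner_sum_irr (fun χ => (c χ : ℂ)) χ
  -- the norm is two
  have hnorm : ∑ χ, c χ * c χ = 2 := by
    refine Int.cast_injective (α := ℂ) ?_
    rw [← IsGen.classInner_self, ← hc, ← hΨdef]
    have h2 : classInner ψ ψ = 2 := by
      conv_lhs => arg 1; rw [show ψ = (Char.trivChar G : G → ℂ) - δ • (D.Λ : G → ℂ) from rfl]
      rw [classInner_sub_left, classInner_smul_left, hψinner, hψinner, if_pos rfl,
        if_neg (Ne.symm D.Λ_ne), if_neg D.Λ_ne, if_pos rfl]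
      linear_combination hδ2
    rw [Int.cast_ofNat, ← h2, classInner, classInner, card_cover π hπ hcard, mul_inv, mul_comm (p : ℂ)⁻¹,
      mul_assoc]
    congr 1
    have e : ∀ g : E, Ψ g * conj (Ψ g) = ψ (π g) * conj (ψ (π g)) := fun g => by
      simp only [Ψ, twist, map_mul]
      by_cases hg : p ∣ orderOf (π g)
      · rw [hvan _ hg]; ring
      · linear_combination (ψ (π g) * conj (ψ (π g))) * tw_norm π hcard lam hg
    rw [Finset.sum_congr rfl fun g _ => e g, sum_comp π hπ hcard fun y => ψ y * conj (ψ y),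
      ← mul_assoc, inv_mul_cancel₀ (Nat.cast_ne_zero.mpr hp.ne_zero), one_mul]
  -- facts on each constituent
  have hcon : ∀ χ : IrrCharacter E, c χ ≠ 0 →
      (∀ z (hz : z ∈ π.ker) g, (χ : E → ℂ) (z * g) = (lam ⟨z, hz⟩ : ℂ) * (χ : E → ℂ) g) ∧
      ∃ u v : ℂ, u - v = (c χ : ℂ) ∧ ∀ w : E, ¬ p ∣ orderOf w →
        (χ : E → ℂ) w = u + v * L (π w) := by
    intro χ hχ
    have hlamχ : ∀ z (hz : z ∈ π.ker) g,
        (χ : E → ℂ) (z * g) = (lam ⟨z, hz⟩ : ℂ) * (χ : E → ℂ) g := by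
      intro z hz g
      obtain ⟨k, hk⟩ := exists_central_scalar χ (hcen hz)
      rw [hk]
      congr 1
      have key : classInner Ψ (χ : E → ℂ) = (lam ⟨z, hz⟩ : ℂ) * conj k * classInner Ψ (χ : E → ℂ) := by
        have hre := Equiv.sum_comp (Equiv.mulLeft z) (fun e : E => Ψ e * conj ((χ : E → ℂ) e))
        simp only [classInner]
        conv_lhs => rw [← hre]
        simp only [Finset.mul_sum]
        refine Finset.sum_congr rfl fun e _ => ?_
        simp only [Equiv.coe_mulLeft, Ψ, twist, tw_mul π hcard hcen lam hz, map_mul,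
          MonoidHom.mem_ker.mp hz, one_mul, hk]
        ring
      rw [hcoef] at key
      set a := ((lam ⟨_, hz⟩ : ℂˣ) : ℂ)
      have h1 : a * conj k = 1 := mul_right_cancel₀ (Int.cast_ne_zero.mpr hχ)
        (by rw [one_mul]; exact key.symm)
      have h2 : a * conj a = 1 := by
        rw [show conj a = ((lam (⟨_, hz⟩ : π.ker)⁻¹ : ℂˣ) : ℂ) from
          (IsIrr.map_inv (isIrrCharacter_linear lam) _).symm, ← Units.val_mul, ← map_mul,
          mul_inv_cancel, map_one, Units.val_one]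
      exact (RingHom.injective (starRingEnd ℂ)) (mul_left_cancel₀ (Units.ne_zero _) (h1.trans h2.symm))
    refine ⟨hlamχ, ?_⟩
    let f : G → ℂ := fun y => if hy : ¬ p ∣ orderOf y then
      (χ : E → ℂ) (exists_lift π hπ hcard hcen hy).choose else 0
    have hfw : ∀ w : E, ¬ p ∣ orderOf w → f (π w) = (χ : E → ℂ) w := fun w hw => by
      have hy : ¬ p ∣ orderOf (π w) := fun hd => hw (hd.trans (orderOf_map_dvd π w))
      simp only [f, dif_pos hy]
      rw [← (exists_lift π hπ hcard hcen hy).choose_spec.2.2 w rfl hw]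
    have hfsing : ∀ y, p ∣ orderOf y → f y = 0 := fun y hy => dif_neg fun h => h hy
    have hfg : ∀ g : E, ¬ p ∣ orderOf (π g) → (χ : E → ℂ) g = tw π lam (p := p) g * f (π g) := by
      intro g hg
      obtain ⟨u, hu⟩ := exists_pPart (G := E) (p := p) hp g
      have huk := pPart_mem_ker π hcard hg hu
      rw [tw_eq π hcard lam hg hu]
      obtain ⟨w, hw, -, -, hn⟩ := hu
      have hπw : π g = π w := by rw [← hw, map_mul, MonoidHom.mem_ker.mp huk, one_mul]
      rw [hπw, hfw w hn, ← hlamχ u huk w, hw]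
    have hfclass : IsClassFunction G f := fun y x => by
      obtain ⟨x', rfl⟩ := hπ x
      have he : orderOf (π x' * y * (π x')⁻¹) = orderOf y := by
        rw [← MulAut.conj_apply, MulEquiv.orderOf_eq]
      by_cases hy : p ∣ orderOf y
      · rw [hfsing _ hy, hfsing _ (he ▸ hy)]
      obtain ⟨w, rfl, hw, -⟩ := exists_lift π hπ hcard hcen hy
      rw [show π x' * π w * (π x')⁻¹ = π (x' * w * x'⁻¹) by simp, hfw w hw,
        hfw _ (by rwa [← MulAut.conj_apply, MulEquiv.orderOf_eq])]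
      exact IsIrr.isClassFunction χ.2 w x'
    -- pairing with the twist
    have hpair : classInner Ψ (χ : E → ℂ) = classInner ψ f := by
      rw [classInner, classInner, card_cover π hπ hcard, mul_inv, mul_comm (p : ℂ)⁻¹, mul_assoc]
      congr 1
      have e : ∀ g : E, Ψ g * conj ((χ : E → ℂ) g) = ψ (π g) * conj (f (π g)) := fun g => by
        by_cases hg : p ∣ orderOf (π g)
        · simp only [Ψ, twist, hvan _ hg]; ring
        · simp only [Ψ, twist, hfg g hg, map_mul]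
          linear_combination (ψ (π g) * conj (f (π g))) * tw_norm π hcard lam hg
      rw [Finset.sum_congr rfl fun g _ => e g, sum_comp π hπ hcard fun y => ψ y * conj (f y),
        ← mul_assoc, inv_mul_cancel₀ (Nat.cast_ne_zero.mpr hp.ne_zero), one_mul]
    -- linkage
    have hlink : ∀ ξ : IrrCharacter G, classInner f (ξ : G → ℂ) ≠ 0 →
        SameBlock M (χ : E → ℂ) (infl π hπ ξ : E → ℂ) := by
      intro ξ hξ
      by_contra hns
      refine hξ ?_
      have h0 := Blocks.sum_regular_eq_zero (p := p) hM hns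
      rw [classInner, mul_eq_zero]
      right
      rw [← Finset.sum_filter_add_sum_filter_not Finset.univ (fun y : G => ¬ p ∣ orderOf y),
        Finset.sum_eq_zero (s := Finset.univ.filter fun y : G => ¬ ¬ p ∣ orderOf y) (fun y hy => by
          rw [hfsing y (not_not.mp (Finset.mem_filter.mp hy).2), zero_mul]), add_zero]
      rw [← h0]
      symm
      refine Finset.sum_bij' (fun w _ => π w)
        (fun y hy => (exists_lift π hπ hcard hcen (Finset.mem_filter.mp hy).2).choose) ?_ ?_ ?_ ?_ ?_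
      · exact fun w hw => Finset.mem_filter.mpr ⟨Finset.mem_univ _, fun hd =>
          (Finset.mem_filter.mp hw).2 (hd.trans (orderOf_map_dvd π w))⟩
      · exact fun y hy => Finset.mem_filter.mpr ⟨Finset.mem_univ _,
          (exists_lift π hπ hcard hcen (Finset.mem_filter.mp hy).2).choose_spec.2.1⟩
      · exact fun w hw => ((exists_lift π hπ hcard hcen (fun hd =>
          (Finset.mem_filter.mp hw).2 (hd.trans (orderOf_map_dvd π w)))).choose_spec.2.2 w rfl
          (Finset.mem_filter.mp hw).2).symm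
      · exact fun y hy => (exists_lift π hπ hcard hcen (Finset.mem_filter.mp hy).2).choose_spec.1
      · intro w hw
        rw [hfw w (Finset.mem_filter.mp hw).2, ← IsIrr.map_inv ξ.2, ← map_inv]
        rfl
    have hB : ∀ ξ : IrrCharacter G, classInner f (ξ : G → ℂ) ≠ 0 → ξ ∈ principalBlock M G := by
      obtain ⟨ξ₀, hξ₀, hm⟩ : ∃ ξ₀ : IrrCharacter G,
          classInner f (ξ₀ : G → ℂ) ≠ 0 ∧ ξ₀ ∈ principalBlock M G := by
        by_contra hno
        push Not at hno
        refine (Int.cast_ne_zero (α := ℂ)).mpr hχ ?_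
        rw [← hcoef, hpair, ← classInner_conj_symm,
          show ψ = (Char.trivChar G : G → ℂ) - δ • (D.Λ : G → ℂ) from rfl, classInner_sub_right,
          classInner_smul_right]
        have e1 : classInner f (Char.trivChar G : G → ℂ) = 0 := by
          by_contra h; exact hno _ h trivChar_mem_principalBlock
        have e2 : classInner f (D.Λ : G → ℂ) = 0 := by
          by_contra h; exact hno _ h D.mem
        rw [e1, e2, mul_zero, sub_zero, map_zero]
      intro ξ hξ
      have h1 : SameBlock M (infl π hπ ξ₀ : E → ℂ) (infl π hπ ξ : E → ℂ) :=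
        SameBlock.trans' (SameBlock.symm' (hlink ξ₀ hξ₀)) (hlink ξ hξ)
      have h2 : SameBlock M (Char.trivChar G : G → ℂ) (ξ₀ : G → ℂ) := hm
      exact SameBlock.trans' h2 ((sameBlock_infl_iff π hπ hcard hcen hM ξ₀ ξ).mp h1)
    -- each linked character is affine in `L`
    have haff : ∀ ξ : IrrCharacter G, classInner f (ξ : G → ℂ) ≠ 0 → ∃ α β : ℂ,
        α - β = (if ξ = Char.trivChar G then 1 else 0) - δ * (if ξ = D.Λ then 1 else 0) ∧
        ∀ y, ¬ p ∣ orderOf y → (ξ : G → ℂ) y = α + β * L y := by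
      intro ξ hξ
      by_cases h1 : ξ = Char.trivChar G
      · subst h1
        exact ⟨1, 0, by simp [Ne.symm D.Λ_ne], fun y _ => by rw [trivChar_apply]; ring⟩
      by_cases h2 : ξ = D.Λ
      · subst h2
        refine ⟨0, δ, by simp [h1], fun y _ => ?_⟩
        simp only [L]
        linear_combination -((D.Λ : G → ℂ) y) * hδ2
      rcases D.regular ξ (hB ξ hξ) with h | h | ⟨ε, hε⟩
      · exact absurd h h1
      · exact absurd h h2
      · exact ⟨ε, ε, by simp [h1, h2], fun y hy => by rw [hε y hy]; simp only [L, δ]; ring⟩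
    choose! α β hαβ hval using haff
    have hexp := fun y => classFunction_apply_eq_sum hfclass y
    refine ⟨∑ ξ : IrrCharacter G, classInner f (ξ : G → ℂ) * α ξ,
      ∑ ξ : IrrCharacter G, classInner f (ξ : G → ℂ) * β ξ, ?_, fun w hw => ?_⟩
    · rw [← Finset.sum_sub_distrib]
      have h1 : classInner f ψ = (c χ : ℂ) := by
        rw [← classInner_conj_symm (φ := ψ) (ψ := f), ← hpair, hcoef, map_intCast]
      rw [← h1]
      have h2 : classInner f ψ = classInner (∑ ξ : IrrCharacter G,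
          classInner f (ξ : G → ℂ) • (ξ : G → ℂ)) ψ := by rw [← classFunction_eq_sum hfclass]
      rw [h2, classInner_sum_left]
      refine Finset.sum_congr rfl fun ξ _ => ?_
      rw [classInner_smul_left, hψinner ξ, ← mul_sub]
      by_cases h0 : classInner f (ξ : G → ℂ) = 0
      · rw [h0, zero_mul, zero_mul]
      · rw [hαβ ξ h0]
    · rw [← hfw w hw, hexp, Finset.sum_mul, ← Finset.sum_add_distrib]
      refine Finset.sum_congr rfl fun ξ _ => ?_
      by_cases h0 : classInner f (ξ : G → ℂ) = 0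
      · rw [h0]; ring
      · rw [hval ξ h0 _ fun hd => hw (hd.trans (orderOf_map_dvd π w))]; ring
  -- the lift of the involution
  obtain ⟨t₁, ht₁⟩ := hπ t
  have hodd : Odd p := hp.odd_of_ne_two S.odd
  set t' := t₁ ^ p with ht'
  have hπt : π t' = t := by
    obtain ⟨m, hm⟩ := hodd
    rw [ht', map_pow, ht₁, hm, pow_succ, pow_mul, show t ^ 2 = 1 from ht ▸ pow_orderOf_eq_one t,
      one_pow, one_mul]
  have ht'2 : t' * t' = 1 := by
    rw [ht', ← pow_add, ← two_mul, pow_mul]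
    refine pow_p_of_mem_ker π hcard (MonoidHom.mem_ker.mpr ?_)
    rw [map_pow, ht₁, show t ^ 2 = 1 from ht ▸ pow_orderOf_eq_one t]
  have ht'reg : ¬ p ∣ orderOf t' := fun hd => S.odd ((Nat.prime_dvd_prime_iff_eq hp Nat.prime_two).mp
    (hd.trans (orderOf_dvd_of_pow_eq_one (by rw [pow_two]; exact ht'2))))
  -- products of two conjugates of the involution have regular lifts
  have htw : ∀ g h : E, ¬ p ∣ orderOf (π (g * t' * g⁻¹ * (h * t' * h⁻¹))) →
      tw π lam (p := p) (g * t' * g⁻¹ * (h * t' * h⁻¹)) = 1 := by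
    intro g h hreg
    set x := g * t' * g⁻¹ with hx
    set y := h * t' * h⁻¹
    have hxx : x * x = 1 := by
      rw [hx, show g * t' * g⁻¹ * (g * t' * g⁻¹) = g * (t' * t') * g⁻¹ by group, ht'2]; group
    have hyy : y * y = 1 := by
      rw [show y * y = h * (t' * t') * h⁻¹ by simp only [y]; group, ht'2]; group
    obtain ⟨u, hu⟩ := exists_pPart (G := E) (p := p) hp (x * y)
    have huk := pPart_mem_ker π hcard hreg hu
    have h1 := IsPPart.conj x hu
    rw [show x * (x * y) * x⁻¹ = (x * y)⁻¹ by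
        rw [mul_inv_rev x y, inv_eq_of_mul_eq_one_right hyy, inv_eq_of_mul_eq_one_right hxx,
          ← mul_assoc x x y, hxx, one_mul],
      Subgroup.mem_center_iff.mp (hcen huk) x, mul_inv_cancel_right] at h1
    have h2 : u = u⁻¹ := pPart_unique hp h1 (IsPPart.inv hu)
    have hu1 : u = 1 := by
      obtain ⟨k, hk⟩ := exists_orderOf_ker π hcard huk
      have h2' : orderOf u ∣ 2 := orderOf_dvd_of_pow_eq_one (by
        rw [pow_two]; exact inv_eq_iff_mul_eq_one.mp h2.symm)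
      rw [hk] at h2'
      rcases k with _ | k
      · exact orderOf_eq_one_iff.mp (by rw [hk, pow_zero])
      · exact absurd ((Nat.prime_dvd_prime_iff_eq hp Nat.prime_two).mp
          ((dvd_pow_self p (Nat.succ_ne_zero k)).trans h2')) S.odd
    rw [tw_eq π hcard lam hreg hu, show (⟨u, _⟩ : π.ker) = 1 from Subtype.ext hu1, map_one,
      Units.val_one]
  set d : ℂ := (D.Λ : G → ℂ) 1 with hddef
  have hd0 : d ≠ 0 := IsIrr.apply_one_ne_zero D.Λ.2
  -- counting pairs of conjugates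
  have hident : ∑ χ : IrrCharacter E, (c χ : ℂ) * ((χ : E → ℂ) t' ^ 2 / (χ : E → ℂ) 1) =
      1 - δ * ((D.Λ : G → ℂ) t ^ 2 / d) := by
    have hG : ∑ g : G, ∑ h : G, ψ (g * t * g⁻¹ * (h * t * h⁻¹)) =
        (Fintype.card G : ℂ) ^ 2 * (1 - δ * ((D.Λ : G → ℂ) t ^ 2 / d)) := by
      simp only [ψ, L, Finset.sum_sub_distrib, ← Finset.mul_sum, sum_conj_mul_conj, Finset.sum_const,
        Finset.card_univ, nsmul_eq_mul, mul_one, ← hddef]
      ring
    have hE : ∑ g : E, ∑ h : E, Ψ (g * t' * g⁻¹ * (h * t' * h⁻¹)) =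
        ((p : ℂ) * (Fintype.card G : ℂ)) ^ 2 * ∑ χ : IrrCharacter E,
          (c χ : ℂ) * ((χ : E → ℂ) t' ^ 2 / (χ : E → ℂ) 1) := by
      rw [← Nat.card_eq_fintype_card, ← card_cover π hπ hcard, Nat.card_eq_fintype_card, hΨdef, hc]
      simp only [Finset.sum_apply, Pi.smul_apply, smul_eq_mul]
      rw [Finset.sum_congr rfl fun g _ => Finset.sum_comm, Finset.sum_comm, Finset.mul_sum]
      refine Finset.sum_congr rfl fun χ _ => ?_
      simp only [← Finset.mul_sum, sum_conj_mul_conj]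
      ring
    have hEG : ∑ g : E, ∑ h : E, Ψ (g * t' * g⁻¹ * (h * t' * h⁻¹)) =
        (p : ℂ) ^ 2 * ∑ g : G, ∑ h : G, ψ (g * t * g⁻¹ * (h * t * h⁻¹)) := by
      have e : ∀ g h : E, Ψ (g * t' * g⁻¹ * (h * t' * h⁻¹)) =
          ψ (π g * t * (π g)⁻¹ * (π h * t * (π h)⁻¹)) := fun g h => by
        simp only [Ψ, twist]
        rw [show π (g * t' * g⁻¹ * (h * t' * h⁻¹)) =
          π g * t * (π g)⁻¹ * (π h * t * (π h)⁻¹) by simp [hπt]]
        by_cases hs : p ∣ orderOf (π g * t * (π g)⁻¹ * (π h * t * (π h)⁻¹))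
        · rw [hvan _ hs, mul_zero]
        · rw [htw g h (by simpa [hπt] using hs), one_mul]
      simp only [e]
      rw [Finset.sum_congr rfl fun g _ => sum_comp π hπ hcard
        fun h => ψ (π g * t * (π g)⁻¹ * (h * t * h⁻¹)), ← Finset.mul_sum]
      rw [sum_comp π hπ hcard fun g => ∑ h : G, ψ (g * t * g⁻¹ * (h * t * h⁻¹))]
      ring
    rw [hE, hG] at hEG
    have h0 : ((p : ℂ) * (Fintype.card G : ℂ)) ^ 2 ≠ 0 :=
      pow_ne_zero 2 (mul_ne_zero (Nat.cast_ne_zero.mpr hp.ne_zero) (Nat.cast_ne_zero.mpr Fintype.card_ne_zero))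
    refine mul_left_cancel₀ h0 (hEG.trans ?_)
    ring
  have hΨ1 : ∑ χ : IrrCharacter E, (c χ : ℂ) * (χ : E → ℂ) 1 = 1 - δ * d := by
    have h := congrFun hc 1
    simp only [Finset.sum_apply, Pi.smul_apply, smul_eq_mul] at h
    rw [← h]
    simp only [twist, map_one, tw_of_regular π hcard lam (g := (1 : E)) (by simp [hp.ne_one]),
      one_mul, ψ, L, hddef]
  -- the two constituents
  let K : Finset (IrrCharacter E) := Finset.univ.filter fun χ => c χ ≠ 0
  have hunit : ∀ χ ∈ K, c χ = 1 ∨ c χ = -1 := fun χ hχ => by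
    have h1 : c χ * c χ ≤ 2 := (Finset.single_le_sum (f := fun χ => c χ * c χ)
      (fun χ _ => mul_self_nonneg _) (Finset.mem_univ χ)).trans (le_of_eq hnorm)
    have h2 : -1 ≤ c χ := by nlinarith
    have h3 : c χ ≤ 1 := by nlinarith
    have h4 : c χ ≠ 0 := (Finset.mem_filter.mp hχ).2
    omega
  have hK : K.card = 2 := by
    have h := hnorm
    rw [← Finset.sum_subset (Finset.subset_univ K) (fun χ _ hχ => by
        simp only [K, Finset.mem_filter, Finset.mem_univ, true_and, not_not] at hχ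
        rw [hχ, mul_zero]),
      Finset.sum_congr rfl (g := fun _ => (1 : ℤ)) fun χ hχ => by
        rcases hunit χ hχ with e | e <;> rw [e] <;> norm_num,
      Finset.sum_const, nsmul_eq_mul, mul_one] at h
    exact_mod_cast h
  obtain ⟨χ₁, χ₂, hne, hKeq⟩ := Finset.card_eq_two.mp hK
  have hmem : ∀ χ ∈ K, c χ ≠ 0 := fun χ hχ => (Finset.mem_filter.mp hχ).2
  have hsum2 : ∀ F : IrrCharacter E → ℂ, ∑ χ, (c χ : ℂ) * F χ =
      (c χ₁ : ℂ) * F χ₁ + (c χ₂ : ℂ) * F χ₂ := fun F => by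
    rw [← Finset.sum_subset (Finset.subset_univ K) (fun χ _ hχ => by
        simp only [K, Finset.mem_filter, Finset.mem_univ, true_and, not_not] at hχ
        rw [hχ, Int.cast_zero, zero_mul]), hKeq, Finset.sum_pair hne]
  rw [hsum2] at hident hΨ1
  have h₁ : χ₁ ∈ K := by rw [hKeq]; simp
  have h₂ : χ₂ ∈ K := by rw [hKeq]; simp
  -- degrees are divisible by `p`
  have hdeg : ∀ χ ∈ K, ∃ m : ℕ, 0 < m ∧ (χ : E → ℂ) 1 = ((p * m : ℕ) : ℂ) := fun χ hχ => by
    obtain ⟨n, ρ, hirr, hρ⟩ := χ.2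
    have := hirr
    set k := a * b * (b * a)⁻¹ with hk
    have hkker : k ∈ π.ker := by simp [k, hab]
    have hk1 : k ≠ 1 := fun e => hnc (mul_inv_eq_one.mp e)
    obtain ⟨s, hs⟩ := CharIntegral.exists_scalar_of_mem_center ρ (hcen hkker)
    have hdim : Module.finrank ℂ (Fin n → ℂ) = n := Module.finrank_fin_fun ℂ
    have hn : (χ : E → ℂ) 1 = (n : ℂ) := by rw [← hρ, Representation.char_one, hdim]
    have hn0 : n ≠ 0 := fun e => IsIrr.apply_one_ne_zero χ.2 (by rw [hn, e, Nat.cast_zero])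
    have hsl : s = (lam ⟨k, hkker⟩ : ℂ) := by
      have h1 := (hcon χ (hmem χ hχ)).1 k hkker 1
      rw [mul_one, hn, ← hρ] at h1
      have h2 : ρ.character k = s * n := by
        rw [Representation.character, hs, map_smul, LinearMap.trace_id, hdim, smul_eq_mul]
      rw [h2] at h1
      exact mul_right_cancel₀ (Nat.cast_ne_zero.mpr hn0) h1
    have hdet : s ^ n = 1 := by
      have h1 : LinearMap.det (ρ k) = 1 := by
        have hu : IsUnit (LinearMap.det (ρ (b * a))) := (IsUnit.map ρ (Group.isUnit (b * a))).map LinearMap.det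
        refine hu.mul_right_cancel ?_
        rw [one_mul, ← map_mul, ← map_mul, hk, inv_mul_cancel_right, map_mul, map_mul, map_mul,
          map_mul, mul_comm]
      rw [hs, LinearMap.det_smul, LinearMap.det_id, mul_one, hdim] at h1
      exact h1
    have hlamn : lam (⟨k, hkker⟩ ^ n) = 1 := by
      rw [map_pow]
      refine Units.ext ?_
      rw [Units.val_pow_eq_pow_val, ← hsl, hdet, Units.val_one]
    have hdvd : p ∣ n := by
      have h1 : orderOf (⟨k, hkker⟩ : π.ker) ∣ n :=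
        orderOf_dvd_of_pow_eq_one (hlam (hlamn.trans (map_one lam).symm))
      rwa [orderOf_eq_prime (x := (⟨k, hkker⟩ : π.ker)) (p := p)
        (Subtype.ext (pow_p_of_mem_ker π hcard hkker)) fun e => hk1 (congrArg Subtype.val e)] at h1
    obtain ⟨m, rfl⟩ := hdvd
    exact ⟨m, Nat.pos_of_ne_zero fun e => hn0 (by rw [e, mul_zero]), hn⟩
  obtain ⟨m₁, hm₁, hn₁⟩ := hdeg χ₁ h₁
  obtain ⟨m₂, hm₂, hn₂⟩ := hdeg χ₂ h₂
  obtain ⟨-, u₁, v₁, huv₁, hval₁⟩ := hcon χ₁ (hmem χ₁ h₁)
  obtain ⟨-, u₂, v₂, huv₂, hval₂⟩ := hcon χ₂ (hmem χ₂ h₂)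
  have hone : ¬ p ∣ orderOf (1 : E) := by simp [hp.ne_one]
  have a₁ := hval₁ t' ht'reg
  have b₁ := hval₁ 1 hone
  have a₂ := hval₂ t' ht'reg
  have b₂ := hval₂ 1 hone
  rw [hπt] at a₁ a₂
  rw [map_one] at b₁ b₂
  set Z : ℂ := L 1 with hZ
  set W : ℂ := L t with hW
  by_cases hWZ : W = Z
  · simp only [Z, W, L] at hWZ
    exact mul_left_cancel₀ (left_ne_zero_of_mul_eq_one hδ2) hWZ
  exfalso
  have hDZ : Z = ((D.δ * (charDegree (D.Λ : G → ℂ) : ℤ) : ℤ) : ℂ) := by
    simp only [Z, L, δ]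
    push_cast
    rw [apply_one_eq_charDegree]
  have hZ0 : Z ≠ 0 := mul_ne_zero (left_ne_zero_of_mul_eq_one hδ2) hd0
  rw [show δ * ((D.Λ : G → ℂ) t ^ 2 / d) = W ^ 2 / Z by
    simp only [W, Z, L, ← hddef]
    field_simp [left_ne_zero_of_mul_eq_one hδ2]] at hident
  rw [show δ * d = Z from rfl] at hΨ1
  set s₁ : ℂ := (c χ₁ : ℂ)
  set s₂ : ℂ := (c χ₂ : ℂ)
  set n₁ : ℂ := (χ₁ : E → ℂ) 1
  set n₂ : ℂ := (χ₂ : E → ℂ) 1
  set x₁ : ℂ := (χ₁ : E → ℂ) t'
  set x₂ : ℂ := (χ₂ : E → ℂ) t'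
  have hn₁0 : n₁ ≠ 0 := IsIrr.apply_one_ne_zero χ₁.2
  have hn₂0 : n₂ ≠ 0 := IsIrr.apply_one_ne_zero χ₂.2
  have q₁ : s₁ * s₁ = 1 := by rcases hunit χ₁ h₁ with e | e <;> simp [s₁, e]
  have q₂ : s₂ * s₂ = 1 := by rcases hunit χ₂ h₂ with e | e <;> simp [s₂, e]
  have e₁ : (1 + Z) * x₁ = n₁ * (1 + W) + s₁ * (Z - W) := by
    rw [a₁, b₁, ← huv₁]; ring
  have e₂ : (1 + Z) * x₂ = n₂ * (1 + W) + s₂ * (Z - W) := by
    rw [a₂, b₂, ← huv₂]; ring
  have hid : s₁ * x₁ ^ 2 * n₂ * Z + s₂ * x₂ ^ 2 * n₁ * Z = (Z - W ^ 2) * n₁ * n₂ := by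
    have := congrArg (fun q => q * (n₁ * n₂ * Z)) hident
    field_simp at this
    linear_combination this
  have hmain : (Z - W) ^ 2 * (Z * (s₁ * n₂ + s₂ * n₁) - (Z - 1) * (n₁ * n₂)) = 0 := by
    linear_combination (1 + Z) ^ 2 * hid
      - (s₁ * n₂ * Z) * ((1 + Z) * x₁ + (n₁ * (1 + W) + s₁ * (Z - W))) * e₁
      - (s₂ * n₁ * Z) * ((1 + Z) * x₂ + (n₂ * (1 + W) + s₂ * (Z - W))) * e₂
      - (Z * (1 + W) ^ 2 * n₁ * n₂) * hΨ1
      - (Z * n₂ * (s₁ * (Z - W) ^ 2 + 2 * n₁ * (1 + W) * (Z - W))) * q₁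
      - (Z * n₁ * (s₂ * (Z - W) ^ 2 + 2 * n₂ * (1 + W) * (Z - W))) * q₂
  have hfin := (mul_eq_zero.mp hmain).resolve_left (pow_ne_zero 2 (sub_ne_zero.mpr (Ne.symm hWZ)))
  have hint : (D.δ * (charDegree (D.Λ : G → ℂ) : ℤ)) * (c χ₁ * m₂ + c χ₂ * m₁) =
      (D.δ * (charDegree (D.Λ : G → ℂ) : ℤ) - 1) * p * m₁ * m₂ := by
    refine Int.cast_injective (α := ℂ) ?_
    rw [hn₁, hn₂, hDZ] at hfin
    push_cast at hfin ⊢
    refine mul_left_cancel₀ (Nat.cast_ne_zero (R := ℂ) |>.mpr hp.ne_zero) ?_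
    linear_combination hfin
  have hp3 : 3 ≤ p := by have := hp.two_le; have := S.odd; omega
  have h9 : (9 : ℤ) ≤ |D.δ * (charDegree (D.Λ : G → ℂ) : ℤ) - 1| := by
    have h1 : (Nat.card (P : Subgroup G) : ℤ) ≤ |D.δ * (charDegree (D.Λ : G → ℂ) : ℤ) - 1| :=
      Int.le_of_dvd (abs_pos.mpr (sub_ne_zero.mpr hd)) ((dvd_abs _ _).mpr D.congr)
    have h2 : (9 : ℤ) ≤ (Nat.card (P : Subgroup G) : ℤ) := by exact_mod_cast nine_le S
    linarith
  exact final_arith hp3 h9 (hunit χ₁ h₁) (hunit χ₂ h₂) hm₁ hm₂ hint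

end Main

end CfsgLib.InertialTwo
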